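import Cfsg.Agent.Lib.Chev.PermDiag
import Cfsg.Prelude.Def_ChevB2

/-! # Certificate for the group B₂(2), generated by a script. -/

set_option autoImplicit false

namespace Cfsg.Agent.Lib.Chev.B22Data

open Cfsg.Lie Cfsg.Agent.Lib.Twisted Cfsg.Agent.Lib.Twisted.Sparse Cfsg.Agent.Lib.Twisted.Eval
open _root_.Cfsg.Agent.Lib.PermComp

def p1_n : Nat := nat_lit 15
def p1_w : Nat := nat_lit 5
def p1_mask : Nat := nat_lit 31
def p1_L : Nat := nat_lit 75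
def p1_maskL : Nat := nat_lit 0x7ffffffffffffffffff
def p1_idc : Nat := nat_lit 0x39ac5a928398a418820

def p2_n : Nat := nat_lit 6
def p2_w : Nat := nat_lit 5
def p2_mask : Nat := nat_lit 31
def p2_L : Nat := nat_lit 30
def p2_maskL : Nat := nat_lit 0x3fffffff
def p2_idc : Nat := nat_lit 0xa418820

def p3_n : Nat := nat_lit 21
def p3_w : Nat := nat_lit 5
def p3_mask : Nat := nat_lit 31
def p3_L : Nat := nat_lit 105
def p3_maskL : Nat := nat_lit 0x1ffffffffffffffffffffffffff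
def p3_idc : Nat := nat_lit 0x149ca307b9ac5a928398a418820

def c1_T : List Nat := [nat_lit 0x39ac5a928398a418820, nat_lit 0x35cb62547418a418820, nat_lit 0x39ac5a928398a418820, nat_lit 0x2d8d720ea494c320820, nat_lit 0x39ac5a928398a418820, nat_lit 0x25483b5cc594c418440, nat_lit 0x39ac5a928398a418820, nat_lit 0x316e6a9283906628820, nat_lit 0x39ac5a928398a418820, nat_lit 0x292c5b9a838824198a0, nat_lit 0x39ac5a928398a418820, nat_lit 0x10a61a12a3b1ae58022, nat_lit 0x39ac5a928398a418820, nat_lit 0x8a85982c3a9a01b924, nat_lit 0x39ac5a928398a418820, nat_lit 0x19a4589203b8ac1a828]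
def c1_prog : List (Nat × Nat × Nat) := [(nat_lit 1, nat_lit 12, nat_lit 0), (nat_lit 1, nat_lit 11, nat_lit 0), (nat_lit 0, nat_lit 13, nat_lit 9), (nat_lit 0, nat_lit 0, nat_lit 15), (nat_lit 0, nat_lit 0, nat_lit 4), (nat_lit 0, nat_lit 0, nat_lit 6), (nat_lit 0, nat_lit 5, nat_lit 0), (nat_lit 0, nat_lit 7, nat_lit 16), (nat_lit 0, nat_lit 0, nat_lit 20), (nat_lit 0, nat_lit 0, nat_lit 9), (nat_lit 0, nat_lit 0, nat_lit 25), (nat_lit 0, nat_lit 0, nat_lit 14), (nat_lit 0, nat_lit 0, nat_lit 14), (nat_lit 0, nat_lit 0, nat_lit 28), (nat_lit 0, nat_lit 0, nat_lit 15), (nat_lit 0, nat_lit 0, nat_lit 22), (nat_lit 0, nat_lit 15, nat_lit 0), (nat_lit 0, nat_lit 25, nat_lit 22), (nat_lit 0, nat_lit 0, nat_lit 33), (nat_lit 0, nat_lit 0, nat_lit 34), (nat_lit 0, nat_lit 0, nat_lit 35), (nat_lit 0, nat_lit 36, nat_lit 30), (nat_lit 0, nat_lit 0, nat_lit 24), (nat_lit 0, nat_lit 0,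 nat_lit 38), (nat_lit 0, nat_lit 0, nat_lit 32), (nat_lit 0, nat_lit 0, nat_lit 26), (nat_lit 0, nat_lit 0, nat_lit 26), (nat_lit 0, nat_lit 0, nat_lit 35), (nat_lit 0, nat_lit 0, nat_lit 32), (nat_lit 0, nat_lit 0, nat_lit 37), (nat_lit 0, nat_lit 38, nat_lit 36), (nat_lit 0, nat_lit 0, nat_lit 46), (nat_lit 0, nat_lit 0, nat_lit 34), (nat_lit 0, nat_lit 0, nat_lit 45), (nat_lit 0, nat_lit 0, nat_lit 44), (nat_lit 0, nat_lit 0, nat_lit 41), (nat_lit 0, nat_lit 0, nat_lit 48), (nat_lit 0, nat_lit 0, nat_lit 42), (nat_lit 0, nat_lit 0, nat_lit 40), (nat_lit 0, nat_lit 0, nat_lit 48), (nat_lit 0, nat_lit 39, nat_lit 38), (nat_lit 0, nat_lit 0, nat_lit 1), (nat_lit 1, nat_lit 35, nat_lit 0), (nat_lit 1, nat_lit 26, nat_lit 0), (nat_lit 1, nat_lit 14, nat_lit 0), (nat_lit 0, nat_lit 24, nat_lit 3), (nat_lit 0, nat_lit 0, nat_lit 16), (nat_lit 0, nat_lit 0, nat_lit 5), (nat_lit 0, nat_lit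 0, nat_lit 18), (nat_lit 0, nat_lit 0, nat_lit 7), (nat_lit 0, nat_lit 0, nat_lit 43), (nat_lit 0, nat_lit 0, nat_lit 21), (nat_lit 0, nat_lit 9, nat_lit 7), (nat_lit 0, nat_lit 0, nat_lit 1), (nat_lit 0, nat_lit 37, nat_lit 24), (nat_lit 0, nat_lit 0, nat_lit 38), (nat_lit 0, nat_lit 0, nat_lit 35), (nat_lit 0, nat_lit 0, nat_lit 15), (nat_lit 0, nat_lit 0, nat_lit 37), (nat_lit 0, nat_lit 0, nat_lit 52), (nat_lit 0, nat_lit 0, nat_lit 30), (nat_lit 0, nat_lit 0, nat_lit 19), (nat_lit 0, nat_lit 0, nat_lit 55), (nat_lit 0, nat_lit 19, nat_lit 19), (nat_lit 0, nat_lit 0, nat_lit 1), (nat_lit 1, nat_lit 11, nat_lit 0), (nat_lit 0, nat_lit 12, nat_lit 1), (nat_lit 0, nat_lit 0, nat_lit 2), (nat_lit 0, nat_lit 0, nat_lit 3), (nat_lit 0, nat_lit 0, nat_lit 15), (nat_lit 0, nat_lit 0, nat_lit 5), (nat_lit 0, nat_lit 0, nat_lit 17), (nat_lit 0, nat_lit 0, nat_lit 7), (nat_lit 0, nat_lit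 0, nat_lit 8), (nat_lit 0, nat_lit 0, nat_lit 20), (nat_lit 0, nat_lit 0, nat_lit 21), (nat_lit 0, nat_lit 0, nat_lit 22), (nat_lit 0, nat_lit 11, nat_lit 0)]
def c1_s0 : Nat := nat_lit 0x35cb62547418a418820
def c1_s1 : Nat := nat_lit 0x8686902e3a9602b126
def c1_s2 : Nat := nat_lit 0x39aa4b168398a209060
def c1_s3 : Nat := nat_lit 0x316e6a9283906628820
noncomputable def c1_lev0 : Core.Lev := Core.mkLev p1_n p1_w p1_mask p1_L p1_maskL p1_idc (nat_lit 7) [c1_s3, c1_s2, c1_s1, c1_s0] [(nat_lit 8, c1_s0, nat_lit 7), (nat_lit 14, c1_s1, nat_lit 8), (nat_lit 12, c1_s3, nat_lit 14), (nat_lit 2, c1_s1, nat_lit 14), (nat_lit 13, c1_s0, nat_lit 14), (nat_lit 10, c1_s2, nat_lit 12), (nat_lit 11, c1_s0, nat_lit 12), (nat_lit 4, c1_s2, nat_lit 2), (nat_lit 3, c1_s1, nat_lit 13), (nat_lit 9, c1_s0, nat_lit 10), (nat_lit 6, c1_s3, nat_lit 4), (nat_lit 0, c1_s1, nat_lit 4), (nat_lit 5, c1_s3, nat_lit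 3), (nat_lit 1, c1_s2, nat_lit 3)]
noncomputable def c1_lev1 : Core.Lev := Core.mkLev p1_n p1_w p1_mask p1_L p1_maskL p1_idc (nat_lit 0) [c1_s3, c1_s2, c1_s1] [(nat_lit 6, c1_s1, nat_lit 0), (nat_lit 4, c1_s3, nat_lit 6), (nat_lit 10, c1_s1, nat_lit 6), (nat_lit 2, c1_s2, nat_lit 4), (nat_lit 12, c1_s2, nat_lit 10), (nat_lit 14, c1_s3, nat_lit 12), (nat_lit 8, c1_s1, nat_lit 12)]
noncomputable def c1_lev2 : Core.Lev := Core.mkLev p1_n p1_w p1_mask p1_L p1_maskL p1_idc (nat_lit 1) [c1_s3, c1_s2] [(nat_lit 3, c1_s2, nat_lit 1), (nat_lit 5, c1_s3, nat_lit 3)]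
noncomputable def c1_lev3 : Core.Lev := Core.mkLev p1_n p1_w p1_mask p1_L p1_maskL p1_idc (nat_lit 3) [c1_s3] [(nat_lit 5, c1_s3, nat_lit 3)]
noncomputable def c1_levels : List Core.Lev := [c1_lev0, c1_lev1, c1_lev2, c1_lev3]

def c2_T : List Nat := [nat_lit 0xa418820, nat_lit 0x8510c01, nat_lit 0xa418820, nat_lit 0xa418801, nat_lit 0xa418820, nat_lit 0xa410c20, nat_lit 0xa418820, nat_lit 0x6229001, nat_lit 0xa418820, nat_lit 0x110c85, nat_lit 0xa418820, nat_lit 0xa219020, nat_lit 0xa418820, nat_lit 0x418825, nat_lit 0xa418820, nat_lit 0x209065]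
def c2_prog : List (Nat × Nat × Nat) := [(nat_lit 1, nat_lit 14, nat_lit 0), (nat_lit 1, nat_lit 7, nat_lit 0), (nat_lit 1, nat_lit 2, nat_lit 0), (nat_lit 0, nat_lit 14, nat_lit 10), (nat_lit 0, nat_lit 0, nat_lit 16), (nat_lit 0, nat_lit 0, nat_lit 5), (nat_lit 0, nat_lit 0, nat_lit 7), (nat_lit 0, nat_lit 5, nat_lit 0), (nat_lit 0, nat_lit 8, nat_lit 17), (nat_lit 0, nat_lit 0, nat_lit 21), (nat_lit 0, nat_lit 0, nat_lit 10), (nat_lit 0, nat_lit 0, nat_lit 26), (nat_lit 0, nat_lit 0, nat_lit 15), (nat_lit 0, nat_lit 0, nat_lit 15), (nat_lit 0, nat_lit 0, nat_lit 29), (nat_lit 0, nat_lit 0, nat_lit 16), (nat_lit 0, nat_lit 0, nat_lit 23), (nat_lit 0, nat_lit 16, nat_lit 14), (nat_lit 0, nat_lit 0, nat_lit 1), (nat_lit 1, nat_lit 11, nat_lit 0), (nat_lit 1, nat_lit 1, nat_lit 0), (nat_lit 0, nat_lit 13, nat_lit 2), (nat_lit 0, nat_lit 0, nat_lit 14), (nat_lit 0, nat_lit 0, nat_lit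 15), (nat_lit 0, nat_lit 0, nat_lit 16), (nat_lit 0, nat_lit 5, nat_lit 4), (nat_lit 0, nat_lit 0, nat_lit 6), (nat_lit 0, nat_lit 0, nat_lit 2), (nat_lit 0, nat_lit 20, nat_lit 20), (nat_lit 0, nat_lit 0, nat_lit 10), (nat_lit 0, nat_lit 0, nat_lit 22), (nat_lit 0, nat_lit 0, nat_lit 23), (nat_lit 0, nat_lit 0, nat_lit 13), (nat_lit 0, nat_lit 0, nat_lit 14), (nat_lit 0, nat_lit 0, nat_lit 26), (nat_lit 0, nat_lit 0, nat_lit 16), (nat_lit 0, nat_lit 0, nat_lit 28), (nat_lit 0, nat_lit 17, nat_lit 0), (nat_lit 0, nat_lit 15, nat_lit 19), (nat_lit 0, nat_lit 0, nat_lit 31), (nat_lit 0, nat_lit 0, nat_lit 32), (nat_lit 0, nat_lit 0, nat_lit 22), (nat_lit 0, nat_lit 0, nat_lit 34), (nat_lit 0, nat_lit 0, nat_lit 24), (nat_lit 0, nat_lit 0, nat_lit 25), (nat_lit 0, nat_lit 0, nat_lit 37), (nat_lit 1, nat_lit 18, nat_lit 0), (nat_lit 0, nat_lit 9, nat_lit 1), (nat_lit 0, nat_lit 0,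 nat_lit 10), (nat_lit 0, nat_lit 0, nat_lit 3), (nat_lit 0, nat_lit 0, nat_lit 12), (nat_lit 0, nat_lit 0, nat_lit 5), (nat_lit 0, nat_lit 0, nat_lit 24), (nat_lit 0, nat_lit 0, nat_lit 15), (nat_lit 0, nat_lit 7, nat_lit 0), (nat_lit 0, nat_lit 27, nat_lit 17), (nat_lit 0, nat_lit 0, nat_lit 10), (nat_lit 0, nat_lit 0, nat_lit 29), (nat_lit 0, nat_lit 0, nat_lit 20), (nat_lit 0, nat_lit 0, nat_lit 13), (nat_lit 0, nat_lit 0, nat_lit 14), (nat_lit 0, nat_lit 0, nat_lit 15), (nat_lit 0, nat_lit 0, nat_lit 16), (nat_lit 0, nat_lit 0, nat_lit 25), (nat_lit 0, nat_lit 9, nat_lit 9), (nat_lit 0, nat_lit 0, nat_lit 10), (nat_lit 0, nat_lit 0, nat_lit 11), (nat_lit 0, nat_lit 0, nat_lit 12), (nat_lit 0, nat_lit 0, nat_lit 4)]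
def c2_s0 : Nat := nat_lit 0x8510c01
def c2_s1 : Nat := nat_lit 0x8328440
def c2_s2 : Nat := nat_lit 0x6520820
def c2_s3 : Nat := nat_lit 0x8219420
def c2_s4 : Nat := nat_lit 0x8518820
noncomputable def c2_lev0 : Core.Lev := Core.mkLev p2_n p2_w p2_mask p2_L p2_maskL p2_idc (nat_lit 0) [c2_s4, c2_s3, c2_s2, c2_s1, c2_s0] [(nat_lit 1, c2_s0, nat_lit 0), (nat_lit 2, c2_s1, nat_lit 1), (nat_lit 5, c2_s3, nat_lit 2), (nat_lit 3, c2_s0, nat_lit 2), (nat_lit 4, c2_s4, nat_lit 5)]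
noncomputable def c2_lev1 : Core.Lev := Core.mkLev p2_n p2_w p2_mask p2_L p2_maskL p2_idc (nat_lit 1) [c2_s4, c2_s3, c2_s2, c2_s1] [(nat_lit 2, c2_s1, nat_lit 1), (nat_lit 5, c2_s3, nat_lit 2), (nat_lit 4, c2_s4, nat_lit 5), (nat_lit 3, c2_s2, nat_lit 5)]
noncomputable def c2_lev2 : Core.Lev := Core.mkLev p2_n p2_w p2_mask p2_L p2_maskL p2_idc (nat_lit 3) [c2_s4, c2_s3, c2_s2] [(nat_lit 4, c2_s2, nat_lit 3), (nat_lit 5, c2_s4, nat_lit 4), (nat_lit 2, c2_s3, nat_lit 4)]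
noncomputable def c2_lev3 : Core.Lev := Core.mkLev p2_n p2_w p2_mask p2_L p2_maskL p2_idc (nat_lit 2) [c2_s4, c2_s3] [(nat_lit 5, c2_s3, nat_lit 2), (nat_lit 4, c2_s4, nat_lit 5)]
noncomputable def c2_lev4 : Core.Lev := Core.mkLev p2_n p2_w p2_mask p2_L p2_maskL p2_idc (nat_lit 4) [c2_s4] [(nat_lit 5, c2_s4, nat_lit 4)]
noncomputable def c2_levels : List Core.Lev := [c2_lev0, c2_lev1, c2_lev2, c2_lev3, c2_lev4]

def c3_T : List Nat := [nat_lit 0x149ca307b9ac5a928398a418820, nat_lit 0x13a464f835cb62547418a418820, nat_lit 0x149ca307b9ac5a928398a418820, nat_lit 0x149ca2f82d8d720ea494c320820, nat_lit 0x149ca307b9ac5a928398a418820, nat_lit 0x149c6507a5483b5cc594c418440, nat_lit 0x149ca307b9ac5a928398a418820, nat_lit 0x128d26f8316e6a9283906628820, nat_lit 0x149ca307b9ac5a928398a418820, nat_lit 0xf84653a292c5b9a838824198a0, nat_lit 0x149ca307b9ac5a928398a418820, nat_lit 0x148ca70790a61a12a3b1ae58022,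 nat_lit 0x149ca307b9ac5a928398a418820, nat_lit 0xf9ca30a08a85982c3a9a01b924, nat_lit 0x149ca307b9ac5a928398a418820, nat_lit 0xf8c272a19a4589203b8ac1a828]
def c3_prog : List (Nat × Nat × Nat) := [(nat_lit 1, nat_lit 12, nat_lit 0), (nat_lit 1, nat_lit 11, nat_lit 0), (nat_lit 0, nat_lit 13, nat_lit 9), (nat_lit 0, nat_lit 0, nat_lit 15), (nat_lit 0, nat_lit 0, nat_lit 4), (nat_lit 0, nat_lit 0, nat_lit 6), (nat_lit 0, nat_lit 5, nat_lit 0), (nat_lit 0, nat_lit 7, nat_lit 16), (nat_lit 0, nat_lit 0, nat_lit 20), (nat_lit 0, nat_lit 0, nat_lit 9), (nat_lit 0, nat_lit 0, nat_lit 25), (nat_lit 0, nat_lit 0, nat_lit 14), (nat_lit 0, nat_lit 0, nat_lit 14), (nat_lit 0, nat_lit 0, nat_lit 28), (nat_lit 0, nat_lit 0, nat_lit 15), (nat_lit 0, nat_lit 0, nat_lit 22), (nat_lit 0, nat_lit 15, nat_lit 0), (nat_lit 0, nat_lit 25, nat_lit 22), (nat_lit 0, nat_lit 0, nat_lit 33), (nat_lit 0, nat_lit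 0, nat_lit 34), (nat_lit 0, nat_lit 0, nat_lit 35), (nat_lit 0, nat_lit 36, nat_lit 30), (nat_lit 0, nat_lit 0, nat_lit 24), (nat_lit 0, nat_lit 0, nat_lit 38), (nat_lit 0, nat_lit 0, nat_lit 32), (nat_lit 0, nat_lit 0, nat_lit 26), (nat_lit 0, nat_lit 0, nat_lit 26), (nat_lit 0, nat_lit 0, nat_lit 35), (nat_lit 0, nat_lit 0, nat_lit 32), (nat_lit 0, nat_lit 0, nat_lit 37), (nat_lit 0, nat_lit 38, nat_lit 36), (nat_lit 0, nat_lit 0, nat_lit 46), (nat_lit 0, nat_lit 0, nat_lit 34), (nat_lit 0, nat_lit 0, nat_lit 45), (nat_lit 0, nat_lit 0, nat_lit 44), (nat_lit 0, nat_lit 0, nat_lit 41), (nat_lit 0, nat_lit 0, nat_lit 48), (nat_lit 0, nat_lit 0, nat_lit 42), (nat_lit 0, nat_lit 0, nat_lit 40), (nat_lit 0, nat_lit 0, nat_lit 48), (nat_lit 0, nat_lit 39, nat_lit 38), (nat_lit 0, nat_lit 0, nat_lit 1), (nat_lit 1, nat_lit 35, nat_lit 0), (nat_lit 1, nat_lit 26, nat_lit 0), (nat_lit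 1, nat_lit 14, nat_lit 0), (nat_lit 0, nat_lit 24, nat_lit 3), (nat_lit 0, nat_lit 0, nat_lit 16), (nat_lit 0, nat_lit 0, nat_lit 5), (nat_lit 0, nat_lit 0, nat_lit 18), (nat_lit 0, nat_lit 0, nat_lit 7), (nat_lit 0, nat_lit 0, nat_lit 43), (nat_lit 0, nat_lit 0, nat_lit 21), (nat_lit 0, nat_lit 9, nat_lit 7), (nat_lit 0, nat_lit 0, nat_lit 1), (nat_lit 0, nat_lit 37, nat_lit 24), (nat_lit 0, nat_lit 0, nat_lit 38), (nat_lit 0, nat_lit 0, nat_lit 35), (nat_lit 0, nat_lit 0, nat_lit 15), (nat_lit 0, nat_lit 0, nat_lit 37), (nat_lit 0, nat_lit 0, nat_lit 52), (nat_lit 0, nat_lit 0, nat_lit 30), (nat_lit 0, nat_lit 0, nat_lit 19), (nat_lit 0, nat_lit 0, nat_lit 55), (nat_lit 0, nat_lit 19, nat_lit 19), (nat_lit 0, nat_lit 0, nat_lit 1), (nat_lit 1, nat_lit 11, nat_lit 0), (nat_lit 0, nat_lit 12, nat_lit 1), (nat_lit 0, nat_lit 0, nat_lit 2), (nat_lit 0, nat_lit 0, nat_lit 3), (nat_lit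 0, nat_lit 0, nat_lit 15), (nat_lit 0, nat_lit 0, nat_lit 5), (nat_lit 0, nat_lit 0, nat_lit 17), (nat_lit 0, nat_lit 0, nat_lit 7), (nat_lit 0, nat_lit 0, nat_lit 8), (nat_lit 0, nat_lit 0, nat_lit 20), (nat_lit 0, nat_lit 0, nat_lit 21), (nat_lit 0, nat_lit 0, nat_lit 22), (nat_lit 0, nat_lit 11, nat_lit 0)]
def c3_s0 : Nat := nat_lit 0x13a464f835cb62547418a418820
def c3_s1 : Nat := nat_lit 0x108d26f908686902e3a9602b126
def c3_s2 : Nat := nat_lit 0x13a41f28b9aa4b168398a209060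
def c3_s3 : Nat := nat_lit 0x128d26f8316e6a9283906628820
noncomputable def c3_lev0 : Core.Lev := Core.mkLev p3_n p3_w p3_mask p3_L p3_maskL p3_idc (nat_lit 7) [c3_s3, c3_s2, c3_s1, c3_s0] [(nat_lit 8, c3_s0, nat_lit 7), (nat_lit 14, c3_s1, nat_lit 8), (nat_lit 12, c3_s3, nat_lit 14), (nat_lit 2, c3_s1, nat_lit 14), (nat_lit 13, c3_s0, nat_lit 14), (nat_lit 10, c3_s2, nat_lit 12), (nat_lit 11, c3_s0, nat_lit 12), (nat_lit 4, c3_s2, nat_lit 2), (nat_lit 3, c3_s1, nat_lit 13), (nat_lit 9, c3_s0, nat_lit 10), (nat_lit 6, c3_s3, nat_lit 4), (nat_lit 0, c3_s1, nat_lit 4), (nat_lit 5, c3_s3, nat_lit 3), (nat_lit 1, c3_s2, nat_lit 3)]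
noncomputable def c3_lev1 : Core.Lev := Core.mkLev p3_n p3_w p3_mask p3_L p3_maskL p3_idc (nat_lit 0) [c3_s3, c3_s2, c3_s1] [(nat_lit 6, c3_s1, nat_lit 0), (nat_lit 4, c3_s3, nat_lit 6), (nat_lit 10, c3_s1, nat_lit 6), (nat_lit 2, c3_s2, nat_lit 4), (nat_lit 12, c3_s2, nat_lit 10), (nat_lit 14, c3_s3, nat_lit 12), (nat_lit 8, c3_s1, nat_lit 12)]
noncomputable def c3_lev2 : Core.Lev := Core.mkLev p3_n p3_w p3_mask p3_L p3_maskL p3_idc (nat_lit 1) [c3_s3, c3_s2] [(nat_lit 3, c3_s2, nat_lit 1), (nat_lit 5, c3_s3, nat_lit 3)]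
noncomputable def c3_lev3 : Core.Lev := Core.mkLev p3_n p3_w p3_mask p3_L p3_maskL p3_idc (nat_lit 3) [c3_s3] [(nat_lit 5, c3_s3, nat_lit 3)]
noncomputable def c3_levels : List Core.Lev := [c3_lev0, c3_lev1, c3_lev2, c3_lev3]

def b_WB : Nat := nat_lit 10
def b_maskB : Nat := nat_lit 0x3ff
def b_Om : Nat := nat_lit 0x3fdf8b57d02afa82078007e188541002c08004
def b_span : List (List (ℕ × ℕ)) := [[(nat_lit 0, nat_lit 1), (nat_lit 1, nat_lit 1), (nat_lit 3, nat_lit 1), (nat_lit 5, nat_lit 1), (nat_lit 7, nat_lit 1), (nat_lit 8, nat_lit 1)], [(nat_lit 1, nat_lit 1), (nat_lit 3, nat_lit 1), (nat_lit 5, nat_lit 1)], [(nat_lit 0, nat_lit 1)], [(nat_lit 0, nat_lit 1), (nat_lit 1, nat_lit 1), (nat_lit 2, nat_lit 1)], [(nat_lit 0, nat_lit 1), (nat_lit 3, nat_lit 1), (nat_lit 4, nat_lit 1)], [(nat_lit 1, nat_lit 1)], [(nat_lit 3, nat_lit 1)], [(nat_lit 1, nat_lit 1), (nat_lit 7, nat_lit 1),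 (nat_lit 9, nat_lit 1)], [(nat_lit 3, nat_lit 1), (nat_lit 7, nat_lit 1), (nat_lit 11, nat_lit 1)], [(nat_lit 7, nat_lit 1)]]
def b_ents : List Bridge.Ent := [([(nat_lit 0, nat_lit 0)], [[]], nat_lit 0x39ac5a928398a418820),
  ([(nat_lit 0, nat_lit 1)], [[(nat_lit 0, nat_lit 9, nat_lit 1), (nat_lit 1, nat_lit 9, nat_lit 1), (nat_lit 2, nat_lit 9, nat_lit 1), (nat_lit 3, nat_lit 7, nat_lit 1), (nat_lit 4, nat_lit 8, nat_lit 1)]], nat_lit 0x35cb62547418a418820),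
  ([(nat_lit 1, nat_lit 0)], [[]], nat_lit 0x39ac5a928398a418820),
  ([(nat_lit 1, nat_lit 1)], [[(nat_lit 3, nat_lit 1, nat_lit 1), (nat_lit 0, nat_lit 8, nat_lit 1), (nat_lit 3, nat_lit 8, nat_lit 1), (nat_lit 4, nat_lit 6, nat_lit 1), (nat_lit 2, nat_lit 6, nat_lit 1), (nat_lit 7, nat_lit 9, nat_lit 1), (nat_lit 5, nat_lit 9, nat_lit 1)]], nat_lit 0x2d8d720ea494c320820),
  ([(nat_lit 2, nat_lit 0)], [[]], nat_lit 0x39ac5a928398a418820),
  ([(nat_lit 2, nat_lit 1)], [[(nat_lit 4, nat_lit 1, nat_lit 1), (nat_lit 0, nat_lit 7, nat_lit 1), (nat_lit 4, nat_lit 7, nat_lit 1), (nat_lit 3, nat_lit 5, nat_lit 1), (nat_lit 2, nat_lit 5, nat_lit 1), (nat_lit 8, nat_lit 9, nat_lit 1), (nat_lit 6, nat_lit 9, nat_lit 1)]], nat_lit 0x25483b5cc594c418440),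
  ([(nat_lit 3, nat_lit 0)], [[]], nat_lit 0x39ac5a928398a418820),
  ([(nat_lit 3, nat_lit 1)], [[(nat_lit 1, nat_lit 6, nat_lit 1), (nat_lit 5, nat_lit 6, nat_lit 1), (nat_lit 3, nat_lit 4, nat_lit 1), (nat_lit 7, nat_lit 8, nat_lit 1)]], nat_lit 0x316e6a9283906628820),
  ([(nat_lit 4, nat_lit 0)], [[]], nat_lit 0x39ac5a928398a418820),
  ([(nat_lit 4, nat_lit 1)], [[(nat_lit 1, nat_lit 5, nat_lit 1), (nat_lit 6, nat_lit 5, nat_lit 1), (nat_lit 4, nat_lit 3, nat_lit 1), (nat_lit 8, nat_lit 7, nat_lit 1)]], nat_lit 0x292c5b9a838824198a0),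
  ([(nat_lit 5, nat_lit 0)], [[]], nat_lit 0x39ac5a928398a418820),
  ([(nat_lit 5, nat_lit 1)], [[(nat_lit 7, nat_lit 1, nat_lit 1), (nat_lit 0, nat_lit 4, nat_lit 1), (nat_lit 7, nat_lit 4, nat_lit 1), (nat_lit 3, nat_lit 2, nat_lit 1), (nat_lit 5, nat_lit 2, nat_lit 1), (nat_lit 8, nat_lit 6, nat_lit 1), (nat_lit 9, nat_lit 6, nat_lit 1)]], nat_lit 0x10a61a12a3b1ae58022),
  ([(nat_lit 6, nat_lit 0)], [[]], nat_lit 0x39ac5a928398a418820),
  ([(nat_lit 6, nat_lit 1)], [[(nat_lit 8, nat_lit 1, nat_lit 1), (nat_lit 0, nat_lit 3, nat_lit 1), (nat_lit 8, nat_lit 3, nat_lit 1), (nat_lit 4, nat_lit 2, nat_lit 1), (nat_lit 6, nat_lit 2, nat_lit 1), (nat_lit 7, nat_lit 5, nat_lit 1), (nat_lit 9, nat_lit 5, nat_lit 1)]], nat_lit 0x8a85982c3a9a01b924),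
  ([(nat_lit 7, nat_lit 0)], [[]], nat_lit 0x39ac5a928398a418820),
  ([(nat_lit 7, nat_lit 1)], [[(nat_lit 0, nat_lit 2, nat_lit 1), (nat_lit 1, nat_lit 2, nat_lit 1), (nat_lit 9, nat_lit 2, nat_lit 1), (nat_lit 7, nat_lit 3, nat_lit 1), (nat_lit 8, nat_lit 4, nat_lit 1)]], nat_lit 0x19a4589203b8ac1a828)]
def b_triples : List (ℕ × ℕ × ℕ) := [(nat_lit 0x39ac5a928398a418820, nat_lit 0xa418820, nat_lit 0x149ca307b9ac5a928398a418820),
  (nat_lit 0x35cb62547418a418820, nat_lit 0x8510c01, nat_lit 0x13a464f835cb62547418a418820),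
  (nat_lit 0x39ac5a928398a418820, nat_lit 0xa418820, nat_lit 0x149ca307b9ac5a928398a418820),
  (nat_lit 0x2d8d720ea494c320820, nat_lit 0xa418801, nat_lit 0x149ca2f82d8d720ea494c320820),
  (nat_lit 0x39ac5a928398a418820, nat_lit 0xa418820, nat_lit 0x149ca307b9ac5a928398a418820),
  (nat_lit 0x25483b5cc594c418440, nat_lit 0xa410c20, nat_lit 0x149c6507a5483b5cc594c418440),
  (nat_lit 0x39ac5a928398a418820, nat_lit 0xa418820, nat_lit 0x149ca307b9ac5a928398a418820),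
  (nat_lit 0x316e6a9283906628820, nat_lit 0x6229001, nat_lit 0x128d26f8316e6a9283906628820),
  (nat_lit 0x39ac5a928398a418820, nat_lit 0xa418820, nat_lit 0x149ca307b9ac5a928398a418820),
  (nat_lit 0x292c5b9a838824198a0, nat_lit 0x110c85, nat_lit 0xf84653a292c5b9a838824198a0),
  (nat_lit 0x39ac5a928398a418820, nat_lit 0xa418820, nat_lit 0x149ca307b9ac5a928398a418820),
  (nat_lit 0x10a61a12a3b1ae58022, nat_lit 0xa219020, nat_lit 0x148ca70790a61a12a3b1ae58022),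
  (nat_lit 0x39ac5a928398a418820, nat_lit 0xa418820, nat_lit 0x149ca307b9ac5a928398a418820),
  (nat_lit 0x8a85982c3a9a01b924, nat_lit 0x418825, nat_lit 0xf9ca30a08a85982c3a9a01b924),
  (nat_lit 0x39ac5a928398a418820, nat_lit 0xa418820, nat_lit 0x149ca307b9ac5a928398a418820),
  (nat_lit 0x19a4589203b8ac1a828, nat_lit 0x209065, nat_lit 0xf8c272a19a4589203b8ac1a828)]

set_option maxRecDepth 1000000

theorem b_omega_ok : Bridge.omegaOK 2 1 1 (chevB2.rank + chevB2.nroots) p1_n b_WB b_maskB b_Om = true := by decide +kernel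
theorem b_span_ok : Bridge.spanOK 2 1 1 (chevB2.rank + chevB2.nroots) p1_n b_WB b_maskB b_Om b_span = true := by decide +kernel
theorem b_ents_ok : Core.allL (Bridge.entOK 2 1 1 p1_n b_WB b_maskB b_Om p1_w p1_mask p1_idc) b_ents = true := by decide +kernel
theorem b_tabs_ok : ∀ ent ∈ b_ents, ent.2.1 = tablesOf chevB2 2 ent.1 := by decide +kernel
theorem c1_ok : Core.checkAll p1_n p1_w p1_mask p1_L p1_maskL p1_idc c1_T c1_prog c1_levels = true := by decide +kernel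
theorem c2_ok : Core.checkAll p2_n p2_w p2_mask p2_L p2_maskL p2_idc c2_T c2_prog c2_levels = true := by decide +kernel
theorem c3_ok : Core.checkAll p3_n p3_w p3_mask p3_L p3_maskL p3_idc c3_T c3_prog c3_levels = true := by decide +kernel
theorem c1_order : Core.orderC c1_levels = 720 := by decide +kernel
theorem c2_order : Core.orderC c2_levels = 720 := by decide +kernel
theorem c3_order : Core.orderC c3_levels = 720 := by decide +kernel
theorem ents_codes : b_ents.map (fun ent => ent.2.2) = c1_T := by decide +kernel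
theorem triples_1 : b_triples.map (·.1) = c1_T := by decide +kernel
theorem triples_2 : b_triples.map (·.2.1) = c2_T := by decide +kernel
theorem triples_3 : b_triples.map (·.2.2) = c3_T := by decide +kernel
theorem triples_ok : ∀ x ∈ b_triples, Cfsg.Agent.Lib.Chev.PermDiag.tripleOK 5 31 15 6 x = true := by decide +kernel

end Cfsg.Agent.Lib.Chev.B22Data
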