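import Cfsg.Agent.Lib.Chev.PermDiag
import Cfsg.Prelude.Def_ChevG2

/-! # Certificate for the group G₂(2), generated by a script. -/

set_option autoImplicit false

namespace Cfsg.Agent.Lib.Chev.G22Data

open Cfsg.Lie Cfsg.Agent.Lib.Twisted Cfsg.Agent.Lib.Twisted.Sparse Cfsg.Agent.Lib.Twisted.Eval
open _root_.Cfsg.Agent.Lib.PermComp

def p1_n : Nat := nat_lit 63
def p1_w : Nat := nat_lit 9
def p1_mask : Nat := nat_lit 511
def p1_L : Nat := nat_lit 567
def p1_maskL : Nat := nat_lit 0x7fffffffffffffffffffffffffffffffffffffffffffffffffffffffffffffffffffffffffffffffffffffffffffffffffffffffffffffffffffffffffffffffffffffffffffff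
def p1_idc : Nat := nat_lit 0xf87a3c1d8e872381b8d86a34198c86230178b85a2c158a85228138984a241188842200f8783a1c0d86832180b8582a14098482210078381a0c058281208038180a04018080200

def p2_n : Nat := nat_lit 224
def p2_w : Nat := nat_lit 9
def p2_mask : Nat := nat_lit 511
def p2_L : Nat := nat_lit 2016
def p2_maskL : Nat := nat_lit 0xffffffffffffffffffffffffffffffffffffffffffffffffffffffffffffffffffffffffffffffffffffffffffffffffffffffffffffffffffffffffffffffffffffffffffffffffffffffffffffffffffffffffffffffffffffffffffffffffffffffffffffffffffffffffffffffffffffffffffffffffffffffffffffffffffffffffffffffffffffffffffffffffffffffffffffffffffffffffffffffffffffffffffffffffffffffffffffffffffffffffffffffffffffffffffffffffffffffffffffffffffffffffffffffffffffffffffffffffffffffffffffffffffffffffffffffffffffffffffffffffffffffffffffffffffffffff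
def p2_idc : Nat := nat_lit 0x6fb79badc6db69b2d86bb59aad469b49a2d067b399acc65b2992c863b198ac461b0982c05faf97abc5dae972b85bad96ab459ac962b057ab95aac55aa952a853a994aa451a8942a04fa793a9c4da6932984ba592a9449a49229047a391a8c45a29128843a190a8441a0902803f9f8fa7c3d9e8f2783b9d8ea74399c8e270379b8da6c359a8d26833998ca6431988c2602f978ba5c2d968b2582b958aa5429948a250279389a4c259289248239188a442190882401f8f87a3c1d8e872381b8d86a34198c86230178b85a2c158a85228138984a241188842200f8783a1c0d86832180b8582a14098482210078381a0c058281208038180a04018080200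

def p3_n : Nat := nat_lit 287
def p3_w : Nat := nat_lit 9
def p3_mask : Nat := nat_lit 511
def p3_L : Nat := nat_lit 2583
def p3_maskL : Nat := nat_lit 0x7fffffffffffffffffffffffffffffffffffffffffffffffffffffffffffffffffffffffffffffffffffffffffffffffffffffffffffffffffffffffffffffffffffffffffffffffffffffffffffffffffffffffffffffffffffffffffffffffffffffffffffffffffffffffffffffffffffffffffffffffffffffffffffffffffffffffffffffffffffffffffffffffffffffffffffffffffffffffffffffffffffffffffffffffffffffffffffffffffffffffffffffffffffffffffffffffffffffffffffffffffffffffffffffffffffffffffffffffffffffffffffffffffffffffffffffffffffffffffffffffffffffffffffffffffffffffffffffffffffffffffffffffffffffffffffffffffffffffffffffffffffffffffffffffffffffffffffffffffffffffffffffffffffffffffffffffffffffffffffffffffffff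
def p3_idc : Nat := nat_lit 0x47a3b1c8dc6a33188bc5a2b1489c4a231087c3a1b0c85c2a130883c1a0b0481c0a03007fbf9fafc7dbe9f2f87bbd9eaf479bc9e2f077bb9daec75ba9d2e873b99cae471b89c2e06fb79badc6db69b2d86bb59aad469b49a2d067b399acc65b2992c863b198ac461b0982c05faf97abc5dae972b85bad96ab459ac962b057ab95aac55aa952a853a994aa451a8942a04fa793a9c4da6932984ba592a9449a49229047a391a8c45a29128843a190a8441a0902803f9f8fa7c3d9e8f2783b9d8ea74399c8e270379b8da6c359a8d26833998ca6431988c2602f978ba5c2d968b2582b958aa5429948a250279389a4c259289248239188a442190882401f8f87a3c1d8e872381b8d86a34198c86230178b85a2c158a85228138984a241188842200f8783a1c0d86832180b8582a14098482210078381a0c058281208038180a04018080200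

def cP_T : List Nat := [nat_lit 0xf87a3c1d8e872381b8d86a34198c86230178b85a2c158a85228138984a241188842200f8783a1c0d86832180b8582a14098482210078381a0c058281208038180a04018080200, nat_lit 0xf47c3b1e0e474371c0d46c331a0c4642f180b45c2b160a45427140944c2312084441f10070361e0e8602e1a0c85026160a8401e12088341c0b060241407040180a04018080200, nat_lit 0xf87a3c1d8e872381b8d86a34198c86230178b85a2c158a85228138984a241188842200f8783a1c0d86832180b8582a14098482210078381a0c058281208038180a04018080200, nat_lit 0xf0763e1e8e06e3a1c8d066361a8c05e32188b0562e168a04e2a148904626128803e22108743c1b0e06434170c0542c130a044240f080341c0b060281208038140c03020080200, nat_lit 0xf87a3c1d8e872381b8d86a34198c86230178b85a2c158a85228138984a241188842200f8783a1c0d86832180b8582a14098482210078381a0c058281208038180a04018080200, nat_lit 0xe872381b8f87a3c1d8c86230178d86a34198a85228138b85a2c1588842200f8984a241186832180b8783a1c0d8482210078582a14098341c0c058241408038140c04018080200,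 nat_lit 0xf87a3c1d8e872381b8d86a34198c86230178b85a2c158a85228138984a241188842200f8783a1c0d86832180b8582a14098482210078381a0c058281208038180a04018080200, nat_lit 0xd86a34198c4642f180f87a3c1d8e474371c0944c231208842200f8b45c2b160a85228138743c1b0e05c30190d05026160a848221007830160e068200e0a048140c04018080200, nat_lit 0xf87a3c1d8e872381b8d86a34198c86230178b85a2c158a85228138984a241188842200f8783a1c0d86832180b8582a14098482210078381a0c058281208038180a04018080200, nat_lit 0xc05e32188d86a34198e872381b8f0763e1e8b45c2b1609c50291509046261288842200f8542c130a0482210078743c1b0e06832180b82c180d070241408038100606028080200, nat_lit 0xf87a3c1d8e872381b8d86a34198c86230178b85a2c158a85228138984a241188842200f8783a1c0d86832180b8582a14098482210078381a0c058281208038180a04018080200, nat_lit 0xb85a2b160a85227140944c241188444200f8f87a3b1e0e872371c0d46c34198c46430178682e180c878361c0e8502a16098402212078281208038381a0c058140c04018040400, nat_lit 0xf87a3c1d8e872381b8d86a34198c86230178b85a2c158a85228138984a241188842200f8783a1c0d86832180b8582a14098482210078381a0c058281208038180a04018080200,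 nat_lit 0x682e190c078361d0e0542816098442012078a84e28148b8562c168904a261188042220f8e870371c8f8783b1e8d06c35198c06431178140c04018241408038341c0c058000202, nat_lit 0xf87a3c1d8e872381b8d86a34198c86230178b85a2c158a85228138984a241188842200f8783a1c0d86832180b8582a14098482210078381a0c058281208038180a04018080200, nat_lit 0x88423b1e0d86a27140e87223120b45c30178c4642b160944c371c0a454331a0f87a200f824160a06034100e0384026120a850221607860341b0e8703c190b8080204018180a00, nat_lit 0xf87a3c1d8e872381b8d86a34198c86230178b85a2c158a85228138984a241188842200f8783a1c0d86832180b8582a14098482210078381a0c058281208038180a04018080200, nat_lit 0xd82e340c0486e111c8f8263c0a074621e17814160606038080d0188046221289042260f8c0641b0e0542c3b1e86434331a8e87010078a8502b168080008038b05c29138280209, nat_lit 0xf87a3c1d8e872381b8d86a34198c86230178b85a2c158a85228138984a241188842200f8783a1c0d86832180b8582a14098482210078381a0c058281208038180a04018080200, nat_lit 0xe82e05080f81227100304c16010c83028178a83a12030b81a301c0d410140087042370f8685a22050781c311e8d00824000b0223b0786452360586c7225038ac7815018cc4613,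 nat_lit 0xf87a3c1d8e872381b8d86a34198c86230178b85a2c158a85228138984a241188842200f8783a1c0d86832180b8582a14098482210078381a0c058281208038180a04018080200, nat_lit 0x6c2e34118281a3814070343c1602c1020178643a3312038123713878302b1d8300e300f8985a361f0d45c251e81426060a8082201078a87222190e85231108502c00018482004, nat_lit 0xf87a3c1d8e872381b8d86a34198c86230178b85a2c158a85228138984a241188842200f8783a1c0d86832180b8582a14098482210078381a0c058281208038180a04018080200, nat_lit 0x187a0e0c0ac6a27098b0722a0e02c2004178583a361d0d03c151c024460a1280842000f8a45a330a0340a3b0b8b8501b1b8300631078f03412190904c01038f83230088881020]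
def cP_prog : List (Nat × Nat × Nat) := [(nat_lit 1, nat_lit 16, nat_lit 0), (nat_lit 1, nat_lit 13, nat_lit 0), (nat_lit 1, nat_lit 10, nat_lit 0), (nat_lit 1, nat_lit 3, nat_lit 0), (nat_lit 1, nat_lit 18, nat_lit 0), (nat_lit 1, nat_lit 23, nat_lit 0), (nat_lit 0, nat_lit 14, nat_lit 23), (nat_lit 0, nat_lit 0, nat_lit 27), (nat_lit 0, nat_lit 0, nat_lit 16), (nat_lit 0, nat_lit 0, nat_lit 32), (nat_lit 0, nat_lit 0, nat_lit 21), (nat_lit 0, nat_lit 0, nat_lit 21), (nat_lit 0, nat_lit 0, nat_lit 16), (nat_lit 0, nat_lit 0, nat_lit 36), (nat_lit 0, nat_lit 0, nat_lit 15), (nat_lit 0, nat_lit 13, nat_lit 10), (nat_lit 0, nat_lit 0, nat_lit 1), (nat_lit 0, nat_lit 26, nat_lit 17), (nat_lit 0, nat_lit 0, nat_lit 34), (nat_lit 0, nat_lit 0, nat_lit 24), (nat_lit 0, nat_lit 0, nat_lit 40), (nat_lit 0, nat_lit 0, nat_lit 34), (nat_lit 0, nat_lit 0, nat_lit 45), (nat_lit 0, nat_lit 0, nat_lit 46), (nat_lit 0, nat_lit 23, nat_lit 20),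 (nat_lit 0, nat_lit 0, nat_lit 1), (nat_lit 0, nat_lit 49, nat_lit 49), (nat_lit 0, nat_lit 0, nat_lit 38), (nat_lit 0, nat_lit 0, nat_lit 30), (nat_lit 0, nat_lit 0, nat_lit 46), (nat_lit 0, nat_lit 0, nat_lit 40), (nat_lit 0, nat_lit 0, nat_lit 31), (nat_lit 0, nat_lit 0, nat_lit 55), (nat_lit 0, nat_lit 0, nat_lit 40), (nat_lit 0, nat_lit 0, nat_lit 50), (nat_lit 0, nat_lit 0, nat_lit 44), (nat_lit 0, nat_lit 0, nat_lit 44), (nat_lit 0, nat_lit 34, nat_lit 31), (nat_lit 0, nat_lit 0, nat_lit 33), (nat_lit 0, nat_lit 0, nat_lit 2), (nat_lit 1, nat_lit 23, nat_lit 0), (nat_lit 1, nat_lit 1, nat_lit 0), (nat_lit 1, nat_lit 16, nat_lit 0), (nat_lit 0, nat_lit 2, nat_lit 2), (nat_lit 0, nat_lit 27, nat_lit 4), (nat_lit 0, nat_lit 0, nat_lit 5), (nat_lit 0, nat_lit 0, nat_lit 29), (nat_lit 0, nat_lit 0, nat_lit 30), (nat_lit 0, nat_lit 0, nat_lit 8), (nat_lit 0, nat_lit 0, nat_lit 9), (nat_lit 0, nat_lit 0, nat_lit 24), (nat_lit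 0, nat_lit 0, nat_lit 34), (nat_lit 0, nat_lit 0, nat_lit 12), (nat_lit 0, nat_lit 9, nat_lit 10), (nat_lit 0, nat_lit 0, nat_lit 1), (nat_lit 0, nat_lit 29, nat_lit 29), (nat_lit 0, nat_lit 0, nat_lit 16), (nat_lit 0, nat_lit 0, nat_lit 17), (nat_lit 0, nat_lit 0, nat_lit 41), (nat_lit 0, nat_lit 0, nat_lit 33), (nat_lit 0, nat_lit 0, nat_lit 34), (nat_lit 0, nat_lit 0, nat_lit 21), (nat_lit 0, nat_lit 0, nat_lit 36), (nat_lit 0, nat_lit 0, nat_lit 23), (nat_lit 0, nat_lit 0, nat_lit 38), (nat_lit 0, nat_lit 0, nat_lit 25), (nat_lit 0, nat_lit 25, nat_lit 23), (nat_lit 0, nat_lit 0, nat_lit 25), (nat_lit 0, nat_lit 0, nat_lit 26), (nat_lit 0, nat_lit 0, nat_lit 3), (nat_lit 0, nat_lit 53, nat_lit 53), (nat_lit 0, nat_lit 0, nat_lit 31), (nat_lit 0, nat_lit 0, nat_lit 46), (nat_lit 0, nat_lit 0, nat_lit 47), (nat_lit 0, nat_lit 0, nat_lit 34), (nat_lit 0, nat_lit 0, nat_lit 58), (nat_lit 0, nat_lit 0, nat_lit 50), (nat_lit 0,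 nat_lit 0, nat_lit 37), (nat_lit 0, nat_lit 0, nat_lit 38), (nat_lit 0, nat_lit 0, nat_lit 39), (nat_lit 0, nat_lit 36, nat_lit 38), (nat_lit 0, nat_lit 0, nat_lit 1), (nat_lit 1, nat_lit 27, nat_lit 0), (nat_lit 0, nat_lit 13, nat_lit 1), (nat_lit 0, nat_lit 0, nat_lit 29), (nat_lit 0, nat_lit 0, nat_lit 15), (nat_lit 0, nat_lit 0, nat_lit 31), (nat_lit 0, nat_lit 0, nat_lit 17), (nat_lit 0, nat_lit 0, nat_lit 6), (nat_lit 0, nat_lit 0, nat_lit 7), (nat_lit 0, nat_lit 0, nat_lit 8), (nat_lit 0, nat_lit 0, nat_lit 9), (nat_lit 0, nat_lit 0, nat_lit 22), (nat_lit 0, nat_lit 10, nat_lit 0)]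
def cP_s0 : Nat := nat_lit 0xf47c3b1e0e474371c0d46c331a0c4642f180b45c2b160a45427140944c2312084441f10070361e0e8602e1a0c85026160a8401e12088341c0b060241407040180a04018080200
def cP_s1 : Nat := nat_lit 0x545e0b1d848122e110184c3800064622b0b8b4683e0609c081a0b06c1039008cc42130f8c05420050d80618078741a24010a478101e8c8581e028d42823038a0223a070704a37
def cP_s2 : Nat := nat_lit 0xc86230178d066361a8e06e3a1c8f87a3c1d8ac582d170a45427140984a24118803e22108582a1409844240f080783a1c0d86434170c030160e0682414080380c0805030080200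
def cP_s3 : Nat := nat_lit 0xe872381b8f87a3c1d8c86230178d86a34198a85228138b85a2c1588842200f8984a241186832180b8783a1c0d8482210078582a14098341c0c058241408038140c04018080200
noncomputable def cP_lev0 : Core.Lev := Core.mkLev p1_n p1_w p1_mask p1_L p1_maskL p1_idc (nat_lit 7) [cP_s3, cP_s2, cP_s1, cP_s0] [(nat_lit 8, cP_s0, nat_lit 7), (nat_lit 35, cP_s1, nat_lit 8), (nat_lit 31, cP_s3, nat_lit 35), (nat_lit 1, cP_s1, nat_lit 35), (nat_lit 36, cP_s0, nat_lit 35), (nat_lit 33, cP_s2, nat_lit 31), (nat_lit 32, cP_s0, nat_lit 31), (nat_lit 37, cP_s1, nat_lit 1), (nat_lit 57, cP_s1, nat_lit 36), (nat_lit 34, cP_s0, nat_lit 33), (nat_lit 19, cP_s1, nat_lit 32), (nat_lit 38, cP_s0, nat_lit 37), (nat_lit 61, cP_s3, nat_lit 57), (nat_lit 51, cP_s2, nat_lit 57), (nat_lit 9, cP_s1, nat_lit 57), (nat_lit 58, cP_s0, nat_lit 57), (nat_lit 15, cP_s3, nat_lit 19), (nat_lit 27, cP_s2, nat_lit 19), (nat_lit 2, cP_s1, nat_lit 19), (nat_lit 21, cP_s0,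 nat_lit 19), (nat_lit 49, cP_s2, nat_lit 61), (nat_lit 47, cP_s1, nat_lit 61), (nat_lit 62, cP_s0, nat_lit 61), (nat_lit 0, cP_s1, nat_lit 51), (nat_lit 52, cP_s0, nat_lit 51), (nat_lit 10, cP_s3, nat_lit 9), (nat_lit 20, cP_s1, nat_lit 9), (nat_lit 18, cP_s1, nat_lit 58), (nat_lit 24, cP_s2, nat_lit 15), (nat_lit 17, cP_s0, nat_lit 15), (nat_lit 23, cP_s3, nat_lit 27), (nat_lit 29, cP_s0, nat_lit 27), (nat_lit 28, cP_s1, nat_lit 2), (nat_lit 13, cP_s1, nat_lit 21), (nat_lit 53, cP_s3, nat_lit 49), (nat_lit 50, cP_s0, nat_lit 49), (nat_lit 59, cP_s2, nat_lit 47), (nat_lit 48, cP_s0, nat_lit 47), (nat_lit 55, cP_s1, nat_lit 0), (nat_lit 56, cP_s1, nat_lit 52), (nat_lit 16, cP_s3, nat_lit 20), (nat_lit 22, cP_s0, nat_lit 20), (nat_lit 25, cP_s2, nat_lit 18), (nat_lit 41, cP_s1, nat_lit 18), (nat_lit 26, cP_s0, nat_lit 24), (nat_lit 60, cP_s1, nat_lit 17), (nat_lit 42, cP_s1, nat_lit 29), (nat_lit 30, cP_s0, nat_lit 28), (nat_lit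 14, cP_s3, nat_lit 13), (nat_lit 11, cP_s2, nat_lit 13), (nat_lit 44, cP_s1, nat_lit 13), (nat_lit 54, cP_s0, nat_lit 53), (nat_lit 43, cP_s1, nat_lit 48), (nat_lit 46, cP_s1, nat_lit 56), (nat_lit 3, cP_s1, nat_lit 25), (nat_lit 45, cP_s3, nat_lit 41), (nat_lit 4, cP_s1, nat_lit 41), (nat_lit 39, cP_s1, nat_lit 42), (nat_lit 12, cP_s2, nat_lit 14), (nat_lit 5, cP_s1, nat_lit 11), (nat_lit 40, cP_s3, nat_lit 44), (nat_lit 6, cP_s1, nat_lit 54)]
noncomputable def cP_lev1 : Core.Lev := Core.mkLev p1_n p1_w p1_mask p1_L p1_maskL p1_idc (nat_lit 0) [cP_s3, cP_s2, cP_s1] [(nat_lit 55, cP_s1, nat_lit 0), (nat_lit 59, cP_s3, nat_lit 55), (nat_lit 53, cP_s2, nat_lit 55), (nat_lit 34, cP_s1, nat_lit 55), (nat_lit 47, cP_s2, nat_lit 59), (nat_lit 49, cP_s3, nat_lit 53), (nat_lit 38, cP_s1, nat_lit 53), (nat_lit 32, cP_s2, nat_lit 34), (nat_lit 51, cP_s1, nat_lit 34), (nat_lit 23, cP_s1, nat_lit 47), (nat_lit 61, cP_s2, nat_lit 49), (nat_lit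 27, cP_s1, nat_lit 38), (nat_lit 36, cP_s3, nat_lit 32), (nat_lit 19, cP_s1, nat_lit 32), (nat_lit 57, cP_s2, nat_lit 51), (nat_lit 16, cP_s2, nat_lit 23), (nat_lit 15, cP_s1, nat_lit 23), (nat_lit 10, cP_s1, nat_lit 27), (nat_lit 2, cP_s1, nat_lit 19), (nat_lit 9, cP_s1, nat_lit 57), (nat_lit 20, cP_s3, nat_lit 16), (nat_lit 24, cP_s2, nat_lit 15), (nat_lit 28, cP_s1, nat_lit 2)]
noncomputable def cP_lev2 : Core.Lev := Core.mkLev p1_n p1_w p1_mask p1_L p1_maskL p1_idc (nat_lit 3) [cP_s3, cP_s2] [(nat_lit 6, cP_s2, nat_lit 3), (nat_lit 5, cP_s3, nat_lit 6), (nat_lit 4, cP_s2, nat_lit 5)]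
noncomputable def cP_lev3 : Core.Lev := Core.mkLev p1_n p1_w p1_mask p1_L p1_maskL p1_idc (nat_lit 5) [cP_s3] [(nat_lit 6, cP_s3, nat_lit 5)]
noncomputable def cP_levels : List Core.Lev := [cP_lev0, cP_lev1, cP_lev2, cP_lev3]

def cA_T : List Nat := [nat_lit 0x542816098481e1108064301a0b878361d0e0b4582b1709c54291408042220f8984624128c06431178d868331a8f8783b1e8e074391b81006060282414080382c180d070000202, nat_lit 0xe47424118b45c3017884443c1d8d86a27140a454331a0f47c1f100c4642b160984a381b830140b048201a070704026120a8581e1408874361a0c05c321e0e0040404018180a00]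
def cA_prog : List (Nat × Nat × Nat) := [(nat_lit 1, nat_lit 1, nat_lit 0), (nat_lit 1, nat_lit 1, nat_lit 0), (nat_lit 0, nat_lit 3, nat_lit 2), (nat_lit 0, nat_lit 0, nat_lit 4), (nat_lit 0, nat_lit 0, nat_lit 4), (nat_lit 0, nat_lit 0, nat_lit 5), (nat_lit 0, nat_lit 5, nat_lit 4), (nat_lit 0, nat_lit 0, nat_lit 6), (nat_lit 0, nat_lit 0, nat_lit 2), (nat_lit 0, nat_lit 9, nat_lit 10), (nat_lit 0, nat_lit 0, nat_lit 11), (nat_lit 0, nat_lit 0, nat_lit 11), (nat_lit 0, nat_lit 0, nat_lit 13), (nat_lit 0, nat_lit 0, nat_lit 13), (nat_lit 0, nat_lit 0, nat_lit 14), (nat_lit 0, nat_lit 0, nat_lit 16), (nat_lit 0, nat_lit 0, nat_lit 16), (nat_lit 0, nat_lit 0, nat_lit 17), (nat_lit 0, nat_lit 11, nat_lit 16), (nat_lit 0, nat_lit 0, nat_lit 1), (nat_lit 0, nat_lit 16, nat_lit 21), (nat_lit 0, nat_lit 0, nat_lit 22), (nat_lit 0, nat_lit 14, nat_lit 0), (nat_lit 0, nat_lit 24, nat_lit 24), (nat_lit 0, nat_lit 0, nat_lit 24), (nat_lit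 0, nat_lit 0, nat_lit 26), (nat_lit 0, nat_lit 0, nat_lit 27), (nat_lit 0, nat_lit 0, nat_lit 27), (nat_lit 0, nat_lit 0, nat_lit 28), (nat_lit 0, nat_lit 0, nat_lit 30), (nat_lit 0, nat_lit 0, nat_lit 30), (nat_lit 0, nat_lit 0, nat_lit 32), (nat_lit 0, nat_lit 24, nat_lit 30), (nat_lit 0, nat_lit 0, nat_lit 31), (nat_lit 0, nat_lit 0, nat_lit 32), (nat_lit 0, nat_lit 0, nat_lit 34), (nat_lit 0, nat_lit 0, nat_lit 35), (nat_lit 0, nat_lit 0, nat_lit 5), (nat_lit 0, nat_lit 33, nat_lit 39), (nat_lit 0, nat_lit 0, nat_lit 40), (nat_lit 0, nat_lit 0, nat_lit 40), (nat_lit 0, nat_lit 0, nat_lit 42), (nat_lit 0, nat_lit 0, nat_lit 42), (nat_lit 0, nat_lit 0, nat_lit 43), (nat_lit 0, nat_lit 0, nat_lit 45), (nat_lit 0, nat_lit 37, nat_lit 44), (nat_lit 0, nat_lit 0, nat_lit 45), (nat_lit 0, nat_lit 0, nat_lit 2), (nat_lit 0, nat_lit 48, nat_lit 48), (nat_lit 0, nat_lit 0, nat_lit 49), (nat_lit 0, nat_lit 0, nat_lit 51), (nat_lit 0,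 nat_lit 0, nat_lit 51), (nat_lit 0, nat_lit 0, nat_lit 53), (nat_lit 0, nat_lit 0, nat_lit 53), (nat_lit 0, nat_lit 0, nat_lit 54), (nat_lit 0, nat_lit 20, nat_lit 0), (nat_lit 0, nat_lit 15, nat_lit 56), (nat_lit 0, nat_lit 0, nat_lit 57), (nat_lit 0, nat_lit 50, nat_lit 0), (nat_lit 0, nat_lit 34, nat_lit 59), (nat_lit 0, nat_lit 0, nat_lit 61), (nat_lit 0, nat_lit 0, nat_lit 62), (nat_lit 0, nat_lit 0, nat_lit 63), (nat_lit 0, nat_lit 0, nat_lit 64), (nat_lit 0, nat_lit 0, nat_lit 65), (nat_lit 0, nat_lit 0, nat_lit 66), (nat_lit 0, nat_lit 0, nat_lit 66), (nat_lit 1, nat_lit 58, nat_lit 0), (nat_lit 1, nat_lit 1, nat_lit 0), (nat_lit 1, nat_lit 49, nat_lit 0), (nat_lit 0, nat_lit 14, nat_lit 3), (nat_lit 0, nat_lit 0, nat_lit 23), (nat_lit 0, nat_lit 0, nat_lit 63), (nat_lit 0, nat_lit 0, nat_lit 14), (nat_lit 0, nat_lit 0, nat_lit 51), (nat_lit 0, nat_lit 0, nat_lit 37), (nat_lit 0, nat_lit 0, nat_lit 17), (nat_lit 0, nat_lit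 0, nat_lit 68), (nat_lit 0, nat_lit 10, nat_lit 9), (nat_lit 0, nat_lit 0, nat_lit 1), (nat_lit 0, nat_lit 13, nat_lit 42), (nat_lit 0, nat_lit 0, nat_lit 58), (nat_lit 0, nat_lit 0, nat_lit 59), (nat_lit 0, nat_lit 14, nat_lit 0), (nat_lit 0, nat_lit 64, nat_lit 36), (nat_lit 0, nat_lit 0, nat_lit 76), (nat_lit 0, nat_lit 0, nat_lit 66), (nat_lit 0, nat_lit 0, nat_lit 67), (nat_lit 0, nat_lit 0, nat_lit 79), (nat_lit 0, nat_lit 0, nat_lit 22), (nat_lit 0, nat_lit 0, nat_lit 81), (nat_lit 0, nat_lit 0, nat_lit 43), (nat_lit 0, nat_lit 0, nat_lit 54), (nat_lit 0, nat_lit 0, nat_lit 45), (nat_lit 0, nat_lit 0, nat_lit 74), (nat_lit 0, nat_lit 26, nat_lit 25), (nat_lit 0, nat_lit 0, nat_lit 1), (nat_lit 1, nat_lit 17, nat_lit 0), (nat_lit 1, nat_lit 14, nat_lit 0), (nat_lit 0, nat_lit 2, nat_lit 2), (nat_lit 0, nat_lit 0, nat_lit 3), (nat_lit 0, nat_lit 0, nat_lit 21), (nat_lit 0, nat_lit 0, nat_lit 22), (nat_lit 0, nat_lit 0, nat_lit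 19), (nat_lit 0, nat_lit 0, nat_lit 7), (nat_lit 0, nat_lit 0, nat_lit 21), (nat_lit 0, nat_lit 0, nat_lit 9), (nat_lit 0, nat_lit 9, nat_lit 8), (nat_lit 0, nat_lit 0, nat_lit 1)]
def cA_s0 : Nat := nat_lit 0x542816098481e1108064301a0b878361d0e0b4582b1709c54291408042220f8984624128c06431178d868331a8f8783b1e8e074391b81006060282414080382c180d070000202
def cA_s1 : Nat := nat_lit 0xa852331a0f87a1f100c4642c158984a371c0e87224118b85a3017884443b1e0d86a281381c1a080702c140c048402a12098582214078642e1c0f06c3a180d0080204018140c00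
def cA_s2 : Nat := nat_lit 0xc86230178d46c331a0e872381b8f47c3b1e084441f100984a24118a45427140b85a2c1586434170c06c381d0f0401e12088582a1409830160d070200e09050180a04018080200
def cA_s3 : Nat := nat_lit 0xd066361a8c86230178f87a3c1d8e06e3a1c8a45427140ac582d170803e22108984a2411844240f080582a140986434170c0783a1c0d82c180e068281208038100605030080200
noncomputable def cA_lev0 : Core.Lev := Core.mkLev p1_n p1_w p1_mask p1_L p1_maskL p1_idc (nat_lit 0) [cA_s3, cA_s2, cA_s1, cA_s0] [(nat_lit 2, cA_s0, nat_lit 0), (nat_lit 5, cA_s1, nat_lit 2), (nat_lit 3, cA_s3, nat_lit 5), (nat_lit 1, cA_s1, nat_lit 5), (nat_lit 12, cA_s0, nat_lit 5), (nat_lit 6, cA_s3, nat_lit 3), (nat_lit 14, cA_s0, nat_lit 3), (nat_lit 13, cA_s2, nat_lit 12), (nat_lit 28, cA_s1, nat_lit 12), (nat_lit 4, cA_s3, nat_lit 6), (nat_lit 11, cA_s0, nat_lit 6), (nat_lit 25, cA_s1, nat_lit 14), (nat_lit 23, cA_s1, nat_lit 13), (nat_lit 15, cA_s3, nat_lit 28), (nat_lit 8, cA_s1,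 nat_lit 28), (nat_lit 49, cA_s0, nat_lit 28), (nat_lit 30, cA_s1, nat_lit 11), (nat_lit 21, cA_s3, nat_lit 25), (nat_lit 10, cA_s1, nat_lit 25), (nat_lit 52, cA_s0, nat_lit 25), (nat_lit 19, cA_s3, nat_lit 23), (nat_lit 9, cA_s1, nat_lit 23), (nat_lit 53, cA_s0, nat_lit 23), (nat_lit 27, cA_s3, nat_lit 15), (nat_lit 55, cA_s0, nat_lit 15), (nat_lit 24, cA_s1, nat_lit 8), (nat_lit 62, cA_s2, nat_lit 49), (nat_lit 37, cA_s1, nat_lit 49), (nat_lit 17, cA_s3, nat_lit 30), (nat_lit 7, cA_s1, nat_lit 30), (nat_lit 48, cA_s0, nat_lit 30), (nat_lit 26, cA_s3, nat_lit 21), (nat_lit 60, cA_s0, nat_lit 21), (nat_lit 56, cA_s2, nat_lit 52), (nat_lit 44, cA_s1, nat_lit 52), (nat_lit 61, cA_s0, nat_lit 19), (nat_lit 29, cA_s1, nat_lit 9), (nat_lit 57, cA_s2, nat_lit 53), (nat_lit 50, cA_s1, nat_lit 53), (nat_lit 16, cA_s3, nat_lit 27), (nat_lit 47, cA_s0, nat_lit 27), (nat_lit 32, cA_s1, nat_lit 55), (nat_lit 20, cA_s3, nat_lit 24), (nat_lit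 51, cA_s0, nat_lit 24), (nat_lit 42, cA_s1, nat_lit 62), (nat_lit 31, cA_s3, nat_lit 37), (nat_lit 34, cA_s1, nat_lit 37), (nat_lit 33, cA_s0, nat_lit 37), (nat_lit 58, cA_s0, nat_lit 17), (nat_lit 59, cA_s2, nat_lit 48), (nat_lit 22, cA_s3, nat_lit 26), (nat_lit 54, cA_s0, nat_lit 26), (nat_lit 39, cA_s3, nat_lit 44), (nat_lit 36, cA_s1, nat_lit 44), (nat_lit 43, cA_s0, nat_lit 44), (nat_lit 41, cA_s1, nat_lit 61), (nat_lit 18, cA_s3, nat_lit 29), (nat_lit 38, cA_s1, nat_lit 50), (nat_lit 40, cA_s1, nat_lit 32), (nat_lit 46, cA_s1, nat_lit 42), (nat_lit 35, cA_s3, nat_lit 31), (nat_lit 45, cA_s2, nat_lit 33)]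
noncomputable def cA_lev1 : Core.Lev := Core.mkLev p1_n p1_w p1_mask p1_L p1_maskL p1_idc (nat_lit 1) [cA_s3, cA_s2, cA_s1] [(nat_lit 6, cA_s1, nat_lit 1), (nat_lit 4, cA_s3, nat_lit 6), (nat_lit 2, cA_s1, nat_lit 6), (nat_lit 5, cA_s3, nat_lit 4), (nat_lit 3, cA_s3, nat_lit 5)]
noncomputable def cA_lev2 : Core.Lev := Core.mkLev p1_n p1_w p1_mask p1_L p1_maskL p1_idc (nat_lit 7) [cA_s3, cA_s2] [(nat_lit 10, cA_s2, nat_lit 7), (nat_lit 8, cA_s2, nat_lit 10), (nat_lit 9, cA_s2, nat_lit 8)]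
noncomputable def cA_lev3 : Core.Lev := Core.mkLev p1_n p1_w p1_mask p1_L p1_maskL p1_idc (nat_lit 3) [cA_s3] [(nat_lit 6, cA_s3, nat_lit 3), (nat_lit 4, cA_s3, nat_lit 6), (nat_lit 5, cA_s3, nat_lit 4)]
noncomputable def cA_levels : List Core.Lev := [cA_lev0, cA_lev1, cA_lev2, cA_lev3]

def cB_T : List Nat := [nat_lit 0x92606ab913b1892c83d9443472159fc5e81272f49e0e240798476468ecc40d2a074e6215732d24a82c2bcb8b23c044f88937a5832a9050a00c2c6a208ae77329b070d958b40be026ea6cda322d858dc246b20d56604e99d786a0c0e9b60c508714a20609858ad25c37ccc1018ac098cf1f370269a489a46c88212548c530db4c3e30078ddb08c672899aa63a88c7a1525805667a281c48acc3f2000aac20b5c129e53ad546b6458e406330b89594903421c169f4a14852bf03ab45ab42201080085f1ad08644795844c34cae90c3c63b24b41442928bc00499644cc42e9e49ad11a2dc7ede6aaa8fa2e4e2ed1443380a92e476d2394063521558074, nat_lit 0x3e184660a1a82580a81da14fe3a1a0e464cc61821827e611f416384c35caa922ba44084f392d936712b1c0a83103a400a9a03265266f31068c81869ad4d6253489d5ed624354d0656a2184c193518c481b0013942de51b74a08f5f0c006bd512f1406e29b70a20229005bebb459b48a22238859eb40b99d1c162305488ae69081a08d68a3046142032884c83c18026a508a9d087b5f9e820433c8dd4cc90910548cb0e2b03caa439b056b114acccc8a67224501f4412564ab1507560ad400f9043c622a4be0d2e83d9ac71b318b883629dc1c3d2f204183f3b0b93ed9162e8b2964eb68b6954a12d709c26b60ea5a5ca78e8584b9cc982d250bdb6b7]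
def cB_prog : List (Nat × Nat × Nat) := [(nat_lit 1, nat_lit 1, nat_lit 0), (nat_lit 1, nat_lit 1, nat_lit 0), (nat_lit 0, nat_lit 3, nat_lit 2), (nat_lit 0, nat_lit 0, nat_lit 4), (nat_lit 0, nat_lit 0, nat_lit 4), (nat_lit 0, nat_lit 0, nat_lit 5), (nat_lit 0, nat_lit 4, nat_lit 4), (nat_lit 0, nat_lit 0, nat_lit 5), (nat_lit 0, nat_lit 0, nat_lit 2), (nat_lit 0, nat_lit 9, nat_lit 10), (nat_lit 0, nat_lit 0, nat_lit 11), (nat_lit 0, nat_lit 0, nat_lit 11), (nat_lit 0, nat_lit 0, nat_lit 13), (nat_lit 0, nat_lit 0, nat_lit 13), (nat_lit 0, nat_lit 0, nat_lit 14), (nat_lit 0, nat_lit 0, nat_lit 16), (nat_lit 0, nat_lit 0, nat_lit 16), (nat_lit 0, nat_lit 0, nat_lit 17), (nat_lit 0, nat_lit 17, nat_lit 17), (nat_lit 0, nat_lit 0, nat_lit 17), (nat_lit 0, nat_lit 0, nat_lit 19), (nat_lit 0, nat_lit 0, nat_lit 20), (nat_lit 0, nat_lit 0, nat_lit 20), (nat_lit 0, nat_lit 0, nat_lit 5)]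
def cB_s0 : Nat := nat_lit 0x92606ab913b1892c83d9443472159fc5e81272f49e0e240798476468ecc40d2a074e6215732d24a82c2bcb8b23c044f88937a5832a9050a00c2c6a208ae77329b070d958b40be026ea6cda322d858dc246b20d56604e99d786a0c0e9b60c508714a20609858ad25c37ccc1018ac098cf1f370269a489a46c88212548c530db4c3e30078ddb08c672899aa63a88c7a1525805667a281c48acc3f2000aac20b5c129e53ad546b6458e406330b89594903421c169f4a14852bf03ab45ab42201080085f1ad08644795844c34cae90c3c63b24b41442928bc00499644cc42e9e49ad11a2dc7ede6aaa8fa2e4e2ed1443380a92e476d2394063521558074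
def cB_s1 : Nat := nat_lit 0x697c7c80618d1500a091b97a5050935282c3b1bcc62359aa892891ca146a7c5284d94401f96938966c8c4e2042a949181d57b4c4c6865978103b3f3040cbb3a16db64c3321d6428138610cd522238426d5000dba4e3aae0b29f4c894d61a313488cb4110a818c23d98192436c12d742e2a26d22d76f854ce4745ac456ac0e06c70a42ea098a36498053cda179cd5a6a1005d1ad008908f2bf63aa47a83660e9803312345146c5587d020b53b206e7a6e2f804512c2556e2d382d8ae980a2c0d2646a120fa4166b101c5c5ca749497481c9340529a891ede1487910ce6b2d43265570599e45421e14c10078f0eec6191fc1261039589e925e0c14600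
def cB_s2 : Nat := nat_lit 0x6392c0c6816a20c4c05fa68484730060f8845127470921b964107150080925e0a1e9049f4cb381c33488f8b6706b33c5e6c02a2c9a661e2506a53061cc626a01a249e64402d8f2df6c0997c452e2ddae1a3c3793c2b5e9103e773f96966d405ab46c3b2a9499a4c61809522e2bad5a411578d082512c2394ac625324022c43a1978234e121ba17659398a04538c174294c119b61d219d8649047ac4ded5099b92eab3aac0acd04b2a8caa846310d6cc5c86d4221141842a7b6d0704e8533a9914c236b2902d93f28cbab8570f5a60a0925474545a1081a745d87936251117c327d6e0585483560e5a21007a4c8050590fc1272039a51aa431b059000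
noncomputable def cB_lev0 : Core.Lev := Core.mkLev p2_n p2_w p2_mask p2_L p2_maskL p2_idc (nat_lit 0) [cB_s1, cB_s2, cB_s0] [(nat_lit 116, cB_s0, nat_lit 0), (nat_lit 71, cB_s1, nat_lit 116), (nat_lit 198, cB_s2, nat_lit 116), (nat_lit 136, cB_s0, nat_lit 116), (nat_lit 167, cB_s1, nat_lit 71), (nat_lit 140, cB_s2, nat_lit 71), (nat_lit 23, cB_s0, nat_lit 71), (nat_lit 133, cB_s1, nat_lit 198), (nat_lit 32, cB_s2, nat_lit 198), (nat_lit 59, cB_s0, nat_lit 198), (nat_lit 180, cB_s1, nat_lit 136), (nat_lit 3, cB_s2, nat_lit 167), (nat_lit 101, cB_s0, nat_lit 167), (nat_lit 26, cB_s1, nat_lit 140), (nat_lit 212, cB_s2, nat_lit 140), (nat_lit 12, cB_s0, nat_lit 140), (nat_lit 174, cB_s1, nat_lit 23), (nat_lit 220, cB_s2, nat_lit 23), (nat_lit 52, cB_s0, nat_lit 23), (nat_lit 205, cB_s2, nat_lit 133), (nat_lit 197, cB_s0, nat_lit 133), (nat_lit 222, cB_s1, nat_lit 32), (nat_lit 112, cB_s1, nat_lit 59), (nat_lit 218, cB_s2, nat_lit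 59), (nat_lit 7, cB_s0, nat_lit 59), (nat_lit 29, cB_s1, nat_lit 180), (nat_lit 108, cB_s2, nat_lit 180), (nat_lit 137, cB_s0, nat_lit 180), (nat_lit 188, cB_s1, nat_lit 3), (nat_lit 99, cB_s2, nat_lit 3), (nat_lit 164, cB_s0, nat_lit 3), (nat_lit 158, cB_s1, nat_lit 101), (nat_lit 181, cB_s1, nat_lit 26), (nat_lit 95, cB_s2, nat_lit 26), (nat_lit 121, cB_s0, nat_lit 26), (nat_lit 80, cB_s1, nat_lit 212), (nat_lit 114, cB_s0, nat_lit 212), (nat_lit 67, cB_s0, nat_lit 12), (nat_lit 94, cB_s1, nat_lit 174), (nat_lit 148, cB_s2, nat_lit 174), (nat_lit 40, cB_s0, nat_lit 174), (nat_lit 128, cB_s1, nat_lit 220), (nat_lit 104, cB_s2, nat_lit 220), (nat_lit 185, cB_s0, nat_lit 220), (nat_lit 100, cB_s1, nat_lit 52), (nat_lit 194, cB_s2, nat_lit 52), (nat_lit 8, cB_s0, nat_lit 52), (nat_lit 56, cB_s2, nat_lit 205), (nat_lit 79, cB_s0, nat_lit 205), (nat_lit 53, cB_s1, nat_lit 197), (nat_lit 73, cB_s2, nat_lit 197), (nat_lit 98, cB_s0,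 nat_lit 197), (nat_lit 75, cB_s2, nat_lit 222), (nat_lit 152, cB_s0, nat_lit 222), (nat_lit 172, cB_s1, nat_lit 112), (nat_lit 44, cB_s2, nat_lit 112), (nat_lit 83, cB_s0, nat_lit 112), (nat_lit 155, cB_s2, nat_lit 29), (nat_lit 38, cB_s0, nat_lit 29), (nat_lit 35, cB_s2, nat_lit 108), (nat_lit 48, cB_s0, nat_lit 108), (nat_lit 70, cB_s1, nat_lit 137), (nat_lit 54, cB_s2, nat_lit 137), (nat_lit 165, cB_s0, nat_lit 137), (nat_lit 150, cB_s1, nat_lit 188), (nat_lit 51, cB_s2, nat_lit 188), (nat_lit 168, cB_s0, nat_lit 188), (nat_lit 47, cB_s1, nat_lit 99), (nat_lit 117, cB_s0, nat_lit 99), (nat_lit 76, cB_s1, nat_lit 164), (nat_lit 217, cB_s0, nat_lit 164), (nat_lit 24, cB_s1, nat_lit 158), (nat_lit 124, cB_s0, nat_lit 181), (nat_lit 145, cB_s1, nat_lit 121), (nat_lit 65, cB_s2, nat_lit 121), (nat_lit 19, cB_s0, nat_lit 121), (nat_lit 171, cB_s2, nat_lit 80), (nat_lit 177, cB_s1, nat_lit 114), (nat_lit 201, cB_s2, nat_lit 114),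 (nat_lit 149, cB_s0, nat_lit 114), (nat_lit 1, cB_s0, nat_lit 94), (nat_lit 78, cB_s1, nat_lit 148), (nat_lit 43, cB_s2, nat_lit 148), (nat_lit 96, cB_s0, nat_lit 148), (nat_lit 151, cB_s1, nat_lit 40), (nat_lit 10, cB_s2, nat_lit 40), (nat_lit 60, cB_s0, nat_lit 40), (nat_lit 46, cB_s2, nat_lit 128), (nat_lit 16, cB_s0, nat_lit 128), (nat_lit 113, cB_s1, nat_lit 185), (nat_lit 91, cB_s2, nat_lit 185), (nat_lit 92, cB_s0, nat_lit 185), (nat_lit 4, cB_s2, nat_lit 100), (nat_lit 166, cB_s0, nat_lit 100), (nat_lit 122, cB_s2, nat_lit 194), (nat_lit 97, cB_s1, nat_lit 8), (nat_lit 36, cB_s1, nat_lit 79), (nat_lit 105, cB_s1, nat_lit 53), (nat_lit 138, cB_s2, nat_lit 53), (nat_lit 64, cB_s0, nat_lit 53), (nat_lit 129, cB_s1, nat_lit 73), (nat_lit 115, cB_s1, nat_lit 98), (nat_lit 139, cB_s0, nat_lit 75), (nat_lit 109, cB_s1, nat_lit 152), (nat_lit 184, cB_s2, nat_lit 44), (nat_lit 195, cB_s0, nat_lit 44), (nat_lit 204, cB_s1, nat_lit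 83), (nat_lit 68, cB_s1, nat_lit 155), (nat_lit 200, cB_s1, nat_lit 70), (nat_lit 196, cB_s2, nat_lit 70), (nat_lit 37, cB_s0, nat_lit 70), (nat_lit 176, cB_s1, nat_lit 54), (nat_lit 219, cB_s1, nat_lit 165), (nat_lit 131, cB_s0, nat_lit 150), (nat_lit 190, cB_s0, nat_lit 51), (nat_lit 187, cB_s1, nat_lit 168), (nat_lit 106, cB_s2, nat_lit 168), (nat_lit 119, cB_s0, nat_lit 168), (nat_lit 126, cB_s2, nat_lit 47), (nat_lit 143, cB_s0, nat_lit 47), (nat_lit 103, cB_s1, nat_lit 117), (nat_lit 208, cB_s2, nat_lit 76), (nat_lit 182, cB_s0, nat_lit 76), (nat_lit 125, cB_s2, nat_lit 24), (nat_lit 209, cB_s0, nat_lit 24), (nat_lit 17, cB_s2, nat_lit 124), (nat_lit 207, cB_s0, nat_lit 124), (nat_lit 89, cB_s1, nat_lit 145), (nat_lit 31, cB_s2, nat_lit 145), (nat_lit 2, cB_s1, nat_lit 65), (nat_lit 161, cB_s2, nat_lit 65), (nat_lit 11, cB_s0, nat_lit 65), (nat_lit 132, cB_s1, nat_lit 19), (nat_lit 213, cB_s0, nat_lit 19), (nat_lit 77, cB_s2,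 nat_lit 177), (nat_lit 25, cB_s0, nat_lit 177), (nat_lit 221, cB_s1, nat_lit 149), (nat_lit 163, cB_s1, nat_lit 1), (nat_lit 192, cB_s0, nat_lit 1), (nat_lit 153, cB_s0, nat_lit 43), (nat_lit 41, cB_s2, nat_lit 96), (nat_lit 21, cB_s0, nat_lit 96), (nat_lit 160, cB_s1, nat_lit 151), (nat_lit 120, cB_s2, nat_lit 151), (nat_lit 214, cB_s0, nat_lit 151), (nat_lit 127, cB_s1, nat_lit 10), (nat_lit 63, cB_s2, nat_lit 10), (nat_lit 42, cB_s0, nat_lit 10), (nat_lit 45, cB_s1, nat_lit 60), (nat_lit 123, cB_s2, nat_lit 60), (nat_lit 191, cB_s0, nat_lit 60), (nat_lit 86, cB_s0, nat_lit 46), (nat_lit 146, cB_s1, nat_lit 4), (nat_lit 173, cB_s1, nat_lit 97), (nat_lit 186, cB_s2, nat_lit 97), (nat_lit 61, cB_s0, nat_lit 97), (nat_lit 5, cB_s1, nat_lit 36), (nat_lit 84, cB_s2, nat_lit 36), (nat_lit 20, cB_s0, nat_lit 36), (nat_lit 216, cB_s0, nat_lit 105), (nat_lit 210, cB_s1, nat_lit 138), (nat_lit 28, cB_s0, nat_lit 138), (nat_lit 81, cB_s1,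 nat_lit 64), (nat_lit 33, cB_s2, nat_lit 64), (nat_lit 159, cB_s0, nat_lit 64), (nat_lit 169, cB_s2, nat_lit 129), (nat_lit 102, cB_s0, nat_lit 129), (nat_lit 74, cB_s2, nat_lit 115), (nat_lit 66, cB_s0, nat_lit 115), (nat_lit 178, cB_s0, nat_lit 184), (nat_lit 14, cB_s0, nat_lit 204), (nat_lit 144, cB_s0, nat_lit 68), (nat_lit 118, cB_s0, nat_lit 200), (nat_lit 13, cB_s0, nat_lit 196), (nat_lit 154, cB_s1, nat_lit 37), (nat_lit 58, cB_s2, nat_lit 37), (nat_lit 90, cB_s0, nat_lit 37), (nat_lit 39, cB_s0, nat_lit 219), (nat_lit 206, cB_s2, nat_lit 190), (nat_lit 203, cB_s0, nat_lit 190), (nat_lit 88, cB_s0, nat_lit 187), (nat_lit 130, cB_s1, nat_lit 106), (nat_lit 72, cB_s2, nat_lit 106), (nat_lit 55, cB_s0, nat_lit 106), (nat_lit 223, cB_s1, nat_lit 119), (nat_lit 147, cB_s1, nat_lit 103), (nat_lit 82, cB_s1, nat_lit 182), (nat_lit 162, cB_s2, nat_lit 207), (nat_lit 50, cB_s2, nat_lit 89), (nat_lit 69, cB_s0, nat_lit 89), (nat_lit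 193, cB_s2, nat_lit 2), (nat_lit 85, cB_s0, nat_lit 2), (nat_lit 189, cB_s1, nat_lit 213), (nat_lit 62, cB_s1, nat_lit 221), (nat_lit 6, cB_s2, nat_lit 221), (nat_lit 215, cB_s2, nat_lit 153), (nat_lit 110, cB_s0, nat_lit 153), (nat_lit 211, cB_s2, nat_lit 41), (nat_lit 134, cB_s0, nat_lit 41), (nat_lit 87, cB_s2, nat_lit 127), (nat_lit 49, cB_s0, nat_lit 127), (nat_lit 157, cB_s1, nat_lit 42), (nat_lit 93, cB_s2, nat_lit 45), (nat_lit 34, cB_s0, nat_lit 45), (nat_lit 175, cB_s2, nat_lit 123), (nat_lit 183, cB_s1, nat_lit 61), (nat_lit 141, cB_s2, nat_lit 5), (nat_lit 9, cB_s0, nat_lit 81), (nat_lit 170, cB_s2, nat_lit 74), (nat_lit 57, cB_s0, nat_lit 74), (nat_lit 27, cB_s2, nat_lit 66), (nat_lit 135, cB_s0, nat_lit 66), (nat_lit 142, cB_s2, nat_lit 118), (nat_lit 22, cB_s0, nat_lit 154), (nat_lit 18, cB_s2, nat_lit 39), (nat_lit 199, cB_s0, nat_lit 39), (nat_lit 111, cB_s1, nat_lit 206), (nat_lit 179, cB_s1, nat_lit 203), (nat_lit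 202, cB_s2, nat_lit 50), (nat_lit 107, cB_s0, nat_lit 50), (nat_lit 156, cB_s1, nat_lit 189), (nat_lit 30, cB_s0, nat_lit 202), (nat_lit 15, cB_s0, nat_lit 107)]
noncomputable def cB_lev1 : Core.Lev := Core.mkLev p2_n p2_w p2_mask p2_L p2_maskL p2_idc (nat_lit 1) [cB_s1, cB_s2] [(nat_lit 163, cB_s1, nat_lit 1), (nat_lit 200, cB_s2, nat_lit 1), (nat_lit 102, cB_s1, nat_lit 163), (nat_lit 128, cB_s2, nat_lit 163), (nat_lit 137, cB_s1, nat_lit 200), (nat_lit 113, cB_s2, nat_lit 200), (nat_lit 78, cB_s2, nat_lit 102), (nat_lit 67, cB_s1, nat_lit 128), (nat_lit 46, cB_s2, nat_lit 128), (nat_lit 70, cB_s1, nat_lit 137), (nat_lit 54, cB_s2, nat_lit 137), (nat_lit 43, cB_s1, nat_lit 113), (nat_lit 209, cB_s1, nat_lit 78), (nat_lit 176, cB_s2, nat_lit 78), (nat_lit 220, cB_s1, nat_lit 67), (nat_lit 185, cB_s2, nat_lit 67), (nat_lit 196, cB_s1, nat_lit 46), (nat_lit 166, cB_s2, nat_lit 54), (nat_lit 174, cB_s2, nat_lit 43), (nat_lit 148,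 cB_s1, nat_lit 209), (nat_lit 124, cB_s2, nat_lit 209), (nat_lit 104, cB_s1, nat_lit 176), (nat_lit 91, cB_s2, nat_lit 185), (nat_lit 94, cB_s2, nat_lit 196), (nat_lit 17, cB_s2, nat_lit 124), (nat_lit 23, cB_s2, nat_lit 104)]
noncomputable def cB_levels : List Core.Lev := [cB_lev0, cB_lev1]

def cC_T : List Nat := [nat_lit 0x145ae747c19a0a8883ae92059589a97c6e60235f88e26a1cbb015ab30f4a12624cb8b2303b614d173a5ddc9b78adca0bb642b9aa5874124ce4535c4d82965b29156778c3c21e9e20c71b4ac38a68aaad31c5584ea4fb714cfb5495cf31a25b80b6e42fc01410488bde3ca5279c1de8b871f636526cb41507563a05a8854916a245e37938ed1765c35c30c72ad0c47c2a22880f25ca3d608485af57e4475a022c486eb99e8e27ab28f04239158c90967a9d8c4a6f34d22687f119d86c79a0c867f23bf554c351b392a6181361f2c53dc1a109929b11129d1fb49306581a71708c881cdec7e8ec51d2bc36b6df4c9412bcd2d6434659adf5138d28ff598542816098481e1108064301a0b878361d0e0b4582b1709c54291408042220f8984624128c06431178d868331a8f8783b1e8e074391b81006060282414080382c180d070000202,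 nat_lit 0x2ed4072249d090ff739e988be3c9ccf07185c088f005ec05784a3bb5e2c9468a59a043472c5eada582555e93381199e446c915b0d257284b2a32bc49e8aa322a0ccee8aa1e28a75244d8a652c2a544632d0fd1ae08eb8a388f673f4de427e385f6df56a4a369020a44811e7d329588430a18c10e799594ccd2aa14a88376c44bf0f664419662299fe128183add3e5272141ccc35d3f9724f412e0ece58414500e38516dd65d74b19566a781a1e4a564c3590672f31d10f1751a4b8ef762fcfac13dc0dd09e262709d0c831d60a9b614116c4d3e275804b3f2d4dade8c1adf2986ab72329a6a34d14f76da322eb44cbe1bab34bb59648b36224dd1a7b0e47424118b45c3017884443c1d8d86a27140a454331a0f47c1f100c4642b160984a381b830140b048201a070704026120a8581e1408874361a0c05c321e0e0040404018180a00]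
def cC_prog : List (Nat × Nat × Nat) := [(nat_lit 1, nat_lit 1, nat_lit 0), (nat_lit 1, nat_lit 1, nat_lit 0), (nat_lit 0, nat_lit 3, nat_lit 2), (nat_lit 0, nat_lit 0, nat_lit 4), (nat_lit 0, nat_lit 0, nat_lit 4), (nat_lit 0, nat_lit 0, nat_lit 5), (nat_lit 0, nat_lit 5, nat_lit 4), (nat_lit 0, nat_lit 0, nat_lit 6), (nat_lit 0, nat_lit 0, nat_lit 2), (nat_lit 0, nat_lit 9, nat_lit 10), (nat_lit 0, nat_lit 0, nat_lit 11), (nat_lit 0, nat_lit 0, nat_lit 11), (nat_lit 0, nat_lit 0, nat_lit 13), (nat_lit 0, nat_lit 0, nat_lit 13), (nat_lit 0, nat_lit 0, nat_lit 14), (nat_lit 0, nat_lit 0, nat_lit 16), (nat_lit 0, nat_lit 0, nat_lit 16), (nat_lit 0, nat_lit 0, nat_lit 17), (nat_lit 0, nat_lit 11, nat_lit 16), (nat_lit 0, nat_lit 0, nat_lit 1), (nat_lit 0, nat_lit 16, nat_lit 21), (nat_lit 0, nat_lit 0, nat_lit 22), (nat_lit 0, nat_lit 14, nat_lit 0), (nat_lit 0, nat_lit 24, nat_lit 24), (nat_lit 0, nat_lit 0, nat_lit 24), (nat_lit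 0, nat_lit 0, nat_lit 26), (nat_lit 0, nat_lit 0, nat_lit 27), (nat_lit 0, nat_lit 0, nat_lit 27), (nat_lit 0, nat_lit 0, nat_lit 28), (nat_lit 0, nat_lit 0, nat_lit 30), (nat_lit 0, nat_lit 0, nat_lit 30), (nat_lit 0, nat_lit 0, nat_lit 32), (nat_lit 0, nat_lit 24, nat_lit 30), (nat_lit 0, nat_lit 0, nat_lit 31), (nat_lit 0, nat_lit 0, nat_lit 32), (nat_lit 0, nat_lit 0, nat_lit 34), (nat_lit 0, nat_lit 0, nat_lit 35), (nat_lit 0, nat_lit 0, nat_lit 5), (nat_lit 0, nat_lit 33, nat_lit 39), (nat_lit 0, nat_lit 0, nat_lit 40), (nat_lit 0, nat_lit 0, nat_lit 40), (nat_lit 0, nat_lit 0, nat_lit 42), (nat_lit 0, nat_lit 0, nat_lit 42), (nat_lit 0, nat_lit 0, nat_lit 43), (nat_lit 0, nat_lit 0, nat_lit 45), (nat_lit 0, nat_lit 37, nat_lit 44), (nat_lit 0, nat_lit 0, nat_lit 45), (nat_lit 0, nat_lit 0, nat_lit 2), (nat_lit 0, nat_lit 48, nat_lit 48), (nat_lit 0, nat_lit 0, nat_lit 49), (nat_lit 0, nat_lit 0, nat_lit 51), (nat_lit 0,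 nat_lit 0, nat_lit 51), (nat_lit 0, nat_lit 0, nat_lit 53), (nat_lit 0, nat_lit 0, nat_lit 53), (nat_lit 0, nat_lit 0, nat_lit 54), (nat_lit 0, nat_lit 20, nat_lit 0), (nat_lit 0, nat_lit 15, nat_lit 56), (nat_lit 0, nat_lit 0, nat_lit 57), (nat_lit 0, nat_lit 50, nat_lit 0), (nat_lit 0, nat_lit 34, nat_lit 59), (nat_lit 0, nat_lit 0, nat_lit 61), (nat_lit 0, nat_lit 0, nat_lit 62), (nat_lit 0, nat_lit 0, nat_lit 63), (nat_lit 0, nat_lit 0, nat_lit 64), (nat_lit 0, nat_lit 0, nat_lit 65), (nat_lit 0, nat_lit 0, nat_lit 66), (nat_lit 0, nat_lit 0, nat_lit 66), (nat_lit 1, nat_lit 58, nat_lit 0), (nat_lit 1, nat_lit 1, nat_lit 0), (nat_lit 1, nat_lit 49, nat_lit 0), (nat_lit 0, nat_lit 14, nat_lit 3), (nat_lit 0, nat_lit 0, nat_lit 23), (nat_lit 0, nat_lit 0, nat_lit 63), (nat_lit 0, nat_lit 0, nat_lit 14), (nat_lit 0, nat_lit 0, nat_lit 51), (nat_lit 0, nat_lit 0, nat_lit 37), (nat_lit 0, nat_lit 0, nat_lit 17), (nat_lit 0, nat_lit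 0, nat_lit 68), (nat_lit 0, nat_lit 10, nat_lit 9), (nat_lit 0, nat_lit 0, nat_lit 1), (nat_lit 0, nat_lit 13, nat_lit 42), (nat_lit 0, nat_lit 0, nat_lit 58), (nat_lit 0, nat_lit 0, nat_lit 59), (nat_lit 0, nat_lit 14, nat_lit 0), (nat_lit 0, nat_lit 64, nat_lit 36), (nat_lit 0, nat_lit 0, nat_lit 76), (nat_lit 0, nat_lit 0, nat_lit 66), (nat_lit 0, nat_lit 0, nat_lit 67), (nat_lit 0, nat_lit 0, nat_lit 79), (nat_lit 0, nat_lit 0, nat_lit 22), (nat_lit 0, nat_lit 0, nat_lit 81), (nat_lit 0, nat_lit 0, nat_lit 43), (nat_lit 0, nat_lit 0, nat_lit 54), (nat_lit 0, nat_lit 0, nat_lit 45), (nat_lit 0, nat_lit 0, nat_lit 74), (nat_lit 0, nat_lit 26, nat_lit 25), (nat_lit 0, nat_lit 0, nat_lit 1), (nat_lit 1, nat_lit 17, nat_lit 0), (nat_lit 1, nat_lit 14, nat_lit 0), (nat_lit 0, nat_lit 2, nat_lit 2), (nat_lit 0, nat_lit 0, nat_lit 3), (nat_lit 0, nat_lit 0, nat_lit 21), (nat_lit 0, nat_lit 0, nat_lit 22), (nat_lit 0, nat_lit 0, nat_lit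 19), (nat_lit 0, nat_lit 0, nat_lit 7), (nat_lit 0, nat_lit 0, nat_lit 21), (nat_lit 0, nat_lit 0, nat_lit 9), (nat_lit 0, nat_lit 9, nat_lit 8), (nat_lit 0, nat_lit 0, nat_lit 1)]
def cC_s0 : Nat := nat_lit 0x145ae747c19a0a8883ae92059589a97c6e60235f88e26a1cbb015ab30f4a12624cb8b2303b614d173a5ddc9b78adca0bb642b9aa5874124ce4535c4d82965b29156778c3c21e9e20c71b4ac38a68aaad31c5584ea4fb714cfb5495cf31a25b80b6e42fc01410488bde3ca5279c1de8b871f636526cb41507563a05a8854916a245e37938ed1765c35c30c72ad0c47c2a22880f25ca3d608485af57e4475a022c486eb99e8e27ab28f04239158c90967a9d8c4a6f34d22687f119d86c79a0c867f23bf554c351b392a6181361f2c53dc1a109929b11129d1fb49306581a71708c881cdec7e8ec51d2bc36b6df4c9412bcd2d6434659adf5138d28ff598542816098481e1108064301a0b878361d0e0b4582b1709c54291408042220f8984624128c06431178d868331a8f8783b1e8e074391b81006060282414080382c180d070000202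
def cC_s1 : Nat := nat_lit 0x1b922e73d915ad073917de6574cc6dd28467bde02946711e20e0472295b00269c12ee53ba1a1e655ab89e2534b46616ae481d1dafa22220c7185f315df0981b34d87d5b9d9d6f82112e24da462d9c659632cdc24a612562e825eab0c4a46e234bccc8b1ace6d98f2810a4169355fa714e2c5bc506232d06a87b100d0a66c22cf4f56faf0ac6f49b2554897fc54d4803ac3968c07f2e8b86d47a790e436a418a4a286bb228983c169909f5f95234e83fc2956d37dc1542af6e9f972f42dbc1dcb2249914ab84e985b70428b918e9a8ec3152d17c931871334ac09e6051a48f85d653f08c9b8419daf022716238e63ca9dd43f6812183113320576f22a8a852331a0f87a1f100c4642c158984a371c0e87224118b85a3017884443b1e0d86a281381c1a080702c140c048402a12098582214078642e1c0f06c3a180d0080204018140c00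
def cC_s2 : Nat := nat_lit 0x279d4cb8ebe0eae52b3662c788319cae954630107182ea99a4f2362e5e6a36d478feff333e5b64d85210d0b220a7cb0e12fa9d351046955750074a0194bf6e108eeb382ba22274541aca4d185c5cfcfe303b8891a3d9c5525e4c13d02cd322b91ee66244da67a4b37610705e3bcdae2281f18c61569c88ea4443515f014dbad204e5a3e9ce8960a5de06221b1e33122427199023196514ac7daed4b07429e58a695ac1116ce5f3789846553c5c087682c13b1b41455ec5448a89aed5864247e93613f0ec6e64439ea5b4cb596ed824bb2386558aadee9271c35fa5a4a12d0cbd7a40cd4ed201ccb8c387b3d6cdf28915407d64b90a714471bd704a508c86230178d46c331a0e872381b8f47c3b1e084441f100984a24118a45427140b85a2c1586434170c06c381d0f0401e12088582a1409830160d070200e09050180a04018080200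
def cC_s3 : Nat := nat_lit 0x47198e94e94dcc757bb60d1033cc597e8b4b16109192f33d4c6b78b5d48f35c19604808dbd90709273713e405a99caee231265508d879516eea80b34fec06d9e87f045a439d0a739944d90b68185fc7d8d1f22e457725cbaaa3914162636520a28c472a49ac774ac1dbcbd3813dc26e782b4c0c93d9c5aa8851929d89c802c1224d59b9dfac245261de462fc61911524b2d36647fa24b4fc562957c86842c8d4c53c41518bb6712dba4354b7de4d143a795e818f3e624902ac31a8da50c2884c14a1d9f66d63bd6229a2e2e9a6486cc75d6ae333911ef855bea1a932ca1498f45e105da698316ce91061ad9a45270318fca02223a265671a888eb9378d066361a8c86230178f87a3c1d8e06e3a1c8a45427140ac582d170803e22108984a2411844240f080582a140986434170c0783a1c0d82c180e068281208038100605030080200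
noncomputable def cC_lev0 : Core.Lev := Core.mkLev p3_n p3_w p3_mask p3_L p3_maskL p3_idc (nat_lit 0) [cC_s3, cC_s2, cC_s1, cC_s0] [(nat_lit 2, cC_s0, nat_lit 0), (nat_lit 5, cC_s1, nat_lit 2), (nat_lit 3, cC_s3, nat_lit 5), (nat_lit 1, cC_s1, nat_lit 5), (nat_lit 12, cC_s0, nat_lit 5), (nat_lit 6, cC_s3, nat_lit 3), (nat_lit 14, cC_s0, nat_lit 3), (nat_lit 13, cC_s2, nat_lit 12), (nat_lit 28, cC_s1, nat_lit 12), (nat_lit 4, cC_s3, nat_lit 6), (nat_lit 11, cC_s0, nat_lit 6), (nat_lit 25, cC_s1, nat_lit 14), (nat_lit 23, cC_s1, nat_lit 13), (nat_lit 15, cC_s3, nat_lit 28), (nat_lit 8, cC_s1, nat_lit 28), (nat_lit 49, cC_s0, nat_lit 28), (nat_lit 30, cC_s1, nat_lit 11), (nat_lit 21, cC_s3, nat_lit 25), (nat_lit 10, cC_s1, nat_lit 25), (nat_lit 52, cC_s0, nat_lit 25), (nat_lit 19, cC_s3, nat_lit 23), (nat_lit 9, cC_s1, nat_lit 23), (nat_lit 53, cC_s0, nat_lit 23), (nat_lit 27, cC_s3, nat_lit 15), (nat_lit 55, cC_s0, nat_lit 15),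 (nat_lit 24, cC_s1, nat_lit 8), (nat_lit 62, cC_s2, nat_lit 49), (nat_lit 37, cC_s1, nat_lit 49), (nat_lit 17, cC_s3, nat_lit 30), (nat_lit 7, cC_s1, nat_lit 30), (nat_lit 48, cC_s0, nat_lit 30), (nat_lit 26, cC_s3, nat_lit 21), (nat_lit 60, cC_s0, nat_lit 21), (nat_lit 56, cC_s2, nat_lit 52), (nat_lit 44, cC_s1, nat_lit 52), (nat_lit 61, cC_s0, nat_lit 19), (nat_lit 29, cC_s1, nat_lit 9), (nat_lit 57, cC_s2, nat_lit 53), (nat_lit 50, cC_s1, nat_lit 53), (nat_lit 16, cC_s3, nat_lit 27), (nat_lit 47, cC_s0, nat_lit 27), (nat_lit 32, cC_s1, nat_lit 55), (nat_lit 20, cC_s3, nat_lit 24), (nat_lit 51, cC_s0, nat_lit 24), (nat_lit 42, cC_s1, nat_lit 62), (nat_lit 31, cC_s3, nat_lit 37), (nat_lit 34, cC_s1, nat_lit 37), (nat_lit 33, cC_s0, nat_lit 37), (nat_lit 58, cC_s0, nat_lit 17), (nat_lit 59, cC_s2, nat_lit 48), (nat_lit 22, cC_s3, nat_lit 26), (nat_lit 54, cC_s0, nat_lit 26), (nat_lit 39, cC_s3, nat_lit 44), (nat_lit 36, cC_s1,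 nat_lit 44), (nat_lit 43, cC_s0, nat_lit 44), (nat_lit 41, cC_s1, nat_lit 61), (nat_lit 18, cC_s3, nat_lit 29), (nat_lit 38, cC_s1, nat_lit 50), (nat_lit 40, cC_s1, nat_lit 32), (nat_lit 46, cC_s1, nat_lit 42), (nat_lit 35, cC_s3, nat_lit 31), (nat_lit 45, cC_s2, nat_lit 33)]
noncomputable def cC_lev1 : Core.Lev := Core.mkLev p3_n p3_w p3_mask p3_L p3_maskL p3_idc (nat_lit 1) [cC_s3, cC_s2, cC_s1] [(nat_lit 6, cC_s1, nat_lit 1), (nat_lit 4, cC_s3, nat_lit 6), (nat_lit 2, cC_s1, nat_lit 6), (nat_lit 5, cC_s3, nat_lit 4), (nat_lit 3, cC_s3, nat_lit 5)]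
noncomputable def cC_lev2 : Core.Lev := Core.mkLev p3_n p3_w p3_mask p3_L p3_maskL p3_idc (nat_lit 7) [cC_s3, cC_s2] [(nat_lit 10, cC_s2, nat_lit 7), (nat_lit 8, cC_s2, nat_lit 10), (nat_lit 9, cC_s2, nat_lit 8)]
noncomputable def cC_lev3 : Core.Lev := Core.mkLev p3_n p3_w p3_mask p3_L p3_maskL p3_idc (nat_lit 3) [cC_s3] [(nat_lit 6, cC_s3, nat_lit 3), (nat_lit 4, cC_s3, nat_lit 6), (nat_lit 5, cC_s3, nat_lit 4)]
noncomputable def cC_levels : List Core.Lev := [cC_lev0, cC_lev1, cC_lev2, cC_lev3]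

def b_WB : Nat := nat_lit 14
def b_maskB : Nat := nat_lit 0x3fff
def b_Om : Nat := nat_lit 0x3dbdf403cfaf12fbdfeddba80e8977eedddf6f9d9b3182c42f085c002fbbbe0aeefbb7abf9af52aa5aa02555952245d912210d84020058001fd57e09f6d7cf9df776e1d4b74012bb4a9123f489108f420100b40001fa07d818e060815c055010804000bc02e0084020000c0020004
def b_span : List (List (ℕ × ℕ)) := [[(nat_lit 1, nat_lit 1), (nat_lit 3, nat_lit 1), (nat_lit 7, nat_lit 1), (nat_lit 11, nat_lit 1), (nat_lit 15, nat_lit 1), (nat_lit 16, nat_lit 1)], [(nat_lit 3, nat_lit 1), (nat_lit 7, nat_lit 1), (nat_lit 11, nat_lit 1)], [(nat_lit 0, nat_lit 1)], [(nat_lit 1, nat_lit 1)], [(nat_lit 1, nat_lit 1), (nat_lit 3, nat_lit 1), (nat_lit 5, nat_lit 1), (nat_lit 7, nat_lit 1), (nat_lit 9, nat_lit 1), (nat_lit 11, nat_lit 1), (nat_lit 13, nat_lit 1)], [(nat_lit 7, nat_lit 1), (nat_lit 9, nat_lit 1), (nat_lit 11, nat_lit 1), (nat_lit 13, nat_lit 1)], [(nat_lit 0, nat_lit 1), (nat_lit 1, nat_lit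 1), (nat_lit 3, nat_lit 1), (nat_lit 5, nat_lit 1), (nat_lit 11, nat_lit 1), (nat_lit 13, nat_lit 1)], [(nat_lit 3, nat_lit 1)], [(nat_lit 7, nat_lit 1)], [(nat_lit 0, nat_lit 1), (nat_lit 7, nat_lit 1), (nat_lit 9, nat_lit 1), (nat_lit 11, nat_lit 1), (nat_lit 13, nat_lit 1), (nat_lit 15, nat_lit 1), (nat_lit 19, nat_lit 1)], [(nat_lit 0, nat_lit 1), (nat_lit 3, nat_lit 1), (nat_lit 5, nat_lit 1), (nat_lit 11, nat_lit 1), (nat_lit 13, nat_lit 1), (nat_lit 31, nat_lit 1), (nat_lit 35, nat_lit 1)], [(nat_lit 0, nat_lit 1), (nat_lit 3, nat_lit 1), (nat_lit 5, nat_lit 1), (nat_lit 7, nat_lit 1), (nat_lit 11, nat_lit 1), (nat_lit 13, nat_lit 1), (nat_lit 15, nat_lit 1), (nat_lit 23, nat_lit 1), (nat_lit 31, nat_lit 1), (nat_lit 35, nat_lit 1)], [(nat_lit 15, nat_lit 1)], [(nat_lit 31, nat_lit 1)]]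
def b_ents : List Bridge.Ent := [([(nat_lit 0, nat_lit 0)], [[]], nat_lit 0xf87a3c1d8e872381b8d86a34198c86230178b85a2c158a85228138984a241188842200f8783a1c0d86832180b8582a14098482210078381a0c058281208038180a04018080200),
  ([(nat_lit 0, nat_lit 1)], [[(nat_lit 2, nat_lit 1, nat_lit 1), (nat_lit 0, nat_lit 13, nat_lit 1), (nat_lit 2, nat_lit 13, nat_lit 1), (nat_lit 3, nat_lit 8, nat_lit 1), (nat_lit 4, nat_lit 10, nat_lit 1), (nat_lit 5, nat_lit 11, nat_lit 1), (nat_lit 7, nat_lit 12, nat_lit 1)]], nat_lit 0xf47c3b1e0e474371c0d46c331a0c4642f180b45c2b160a45427140944c2312084441f10070361e0e8602e1a0c85026160a8401e12088341c0b060241407040180a04018080200),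
  ([(nat_lit 1, nat_lit 0)], [[]], nat_lit 0xf87a3c1d8e872381b8d86a34198c86230178b85a2c158a85228138984a241188842200f8783a1c0d86832180b8582a14098482210078381a0c058281208038180a04018080200),
  ([(nat_lit 1, nat_lit 1)], [[(nat_lit 3, nat_lit 0, nat_lit 1), (nat_lit 3, nat_lit 1, nat_lit 1), (nat_lit 0, nat_lit 12, nat_lit 1), (nat_lit 1, nat_lit 12, nat_lit 1), (nat_lit 3, nat_lit 12, nat_lit 1), (nat_lit 2, nat_lit 7, nat_lit 1), (nat_lit 4, nat_lit 9, nat_lit 1), (nat_lit 6, nat_lit 11, nat_lit 1), (nat_lit 8, nat_lit 13, nat_lit 1)]], nat_lit 0xf0763e1e8e06e3a1c8d066361a8c05e32188b0562e168a04e2a148904626128803e22108743c1b0e06434170c0542c130a044240f080341c0b060281208038140c03020080200),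
  ([(nat_lit 2, nat_lit 0)], [[]], nat_lit 0xf87a3c1d8e872381b8d86a34198c86230178b85a2c158a85228138984a241188842200f8783a1c0d86832180b8582a14098482210078381a0c058281208038180a04018080200),
  ([(nat_lit 2, nat_lit 1)], [[(nat_lit 4, nat_lit 0, nat_lit 1), (nat_lit 1, nat_lit 11, nat_lit 1), (nat_lit 4, nat_lit 11, nat_lit 1), (nat_lit 2, nat_lit 5, nat_lit 1), (nat_lit 3, nat_lit 6, nat_lit 1), (nat_lit 2, nat_lit 9, nat_lit 1), (nat_lit 3, nat_lit 10, nat_lit 1), (nat_lit 9, nat_lit 12, nat_lit 1), (nat_lit 5, nat_lit 12, nat_lit 1), (nat_lit 2, nat_lit 12, nat_lit 1), (nat_lit 10, nat_lit 13, nat_lit 1), (nat_lit 6, nat_lit 13, nat_lit 1), (nat_lit 3, nat_lit 13, nat_lit 1)]], nat_lit 0xe872381b8f87a3c1d8c86230178d86a34198a85228138b85a2c1588842200f8984a241186832180b8783a1c0d8482210078582a14098341c0c058241408038140c04018080200),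
  ([(nat_lit 3, nat_lit 0)], [[]], nat_lit 0xf87a3c1d8e872381b8d86a34198c86230178b85a2c158a85228138984a241188842200f8783a1c0d86832180b8582a14098482210078381a0c058281208038180a04018080200),
  ([(nat_lit 3, nat_lit 1)], [[(nat_lit 5, nat_lit 0, nat_lit 1), (nat_lit 5, nat_lit 1, nat_lit 1), (nat_lit 0, nat_lit 10, nat_lit 1), (nat_lit 1, nat_lit 10, nat_lit 1), (nat_lit 5, nat_lit 10, nat_lit 1), (nat_lit 2, nat_lit 4, nat_lit 1), (nat_lit 2, nat_lit 6, nat_lit 1), (nat_lit 6, nat_lit 8, nat_lit 1), (nat_lit 4, nat_lit 8, nat_lit 1), (nat_lit 2, nat_lit 8, nat_lit 1), (nat_lit 7, nat_lit 9, nat_lit 1), (nat_lit 7, nat_lit 11, nat_lit 1), (nat_lit 11, nat_lit 13, nat_lit 1), (nat_lit 9, nat_lit 13, nat_lit 1), (nat_lit 7, nat_lit 13, nat_lit 1)]], nat_lit 0xd86a34198c4642f180f87a3c1d8e474371c0944c231208842200f8b45c2b160a85228138743c1b0e05c30190d05026160a848221007830160e068200e0a048140c04018080200),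
  ([(nat_lit 4, nat_lit 0)], [[]], nat_lit 0xf87a3c1d8e872381b8d86a34198c86230178b85a2c158a85228138984a241188842200f8783a1c0d86832180b8582a14098482210078381a0c058281208038180a04018080200),
  ([(nat_lit 4, nat_lit 1)], [[(nat_lit 6, nat_lit 1, nat_lit 1), (nat_lit 0, nat_lit 9, nat_lit 1), (nat_lit 6, nat_lit 9, nat_lit 1), (nat_lit 3, nat_lit 4, nat_lit 1), (nat_lit 3, nat_lit 5, nat_lit 1), (nat_lit 5, nat_lit 7, nat_lit 1), (nat_lit 4, nat_lit 7, nat_lit 1), (nat_lit 3, nat_lit 7, nat_lit 1), (nat_lit 8, nat_lit 10, nat_lit 1), (nat_lit 8, nat_lit 11, nat_lit 1), (nat_lit 11, nat_lit 12, nat_lit 1), (nat_lit 10, nat_lit 12, nat_lit 1), (nat_lit 8, nat_lit 12, nat_lit 1)]], nat_lit 0xc05e32188d86a34198e872381b8f0763e1e8b45c2b1609c50291509046261288842200f8542c130a0482210078743c1b0e06832180b82c180d070241408038100606028080200),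
  ([(nat_lit 5, nat_lit 0)], [[]], nat_lit 0xf87a3c1d8e872381b8d86a34198c86230178b85a2c158a85228138984a241188842200f8783a1c0d86832180b8582a14098482210078381a0c058281208038180a04018080200),
  ([(nat_lit 5, nat_lit 1)], [[(nat_lit 7, nat_lit 0, nat_lit 1), (nat_lit 1, nat_lit 8, nat_lit 1), (nat_lit 7, nat_lit 8, nat_lit 1), (nat_lit 2, nat_lit 3, nat_lit 1), (nat_lit 5, nat_lit 6, nat_lit 1), (nat_lit 9, nat_lit 10, nat_lit 1), (nat_lit 12, nat_lit 13, nat_lit 1)]], nat_lit 0xb85a2b160a85227140944c241188444200f8f87a3b1e0e872371c0d46c34198c46430178682e180c878361c0e8502a16098402212078281208038381a0c058140c04018040400),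
  ([(nat_lit 6, nat_lit 0)], [[]], nat_lit 0xf87a3c1d8e872381b8d86a34198c86230178b85a2c158a85228138984a241188842200f8783a1c0d86832180b8582a14098482210078381a0c058281208038180a04018080200),
  ([(nat_lit 6, nat_lit 1)], [[(nat_lit 8, nat_lit 0, nat_lit 1), (nat_lit 1, nat_lit 7, nat_lit 1), (nat_lit 8, nat_lit 7, nat_lit 1), (nat_lit 3, nat_lit 2, nat_lit 1), (nat_lit 6, nat_lit 5, nat_lit 1), (nat_lit 10, nat_lit 9, nat_lit 1), (nat_lit 13, nat_lit 12, nat_lit 1)]], nat_lit 0x682e190c078361d0e0542816098442012078a84e28148b8562c168904a261188042220f8e870371c8f8783b1e8d06c35198c06431178140c04018241408038341c0c058000202),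
  ([(nat_lit 7, nat_lit 0)], [[]], nat_lit 0xf87a3c1d8e872381b8d86a34198c86230178b85a2c158a85228138984a241188842200f8783a1c0d86832180b8582a14098482210078381a0c058281208038180a04018080200),
  ([(nat_lit 7, nat_lit 1)], [[(nat_lit 9, nat_lit 1, nat_lit 1), (nat_lit 0, nat_lit 6, nat_lit 1), (nat_lit 9, nat_lit 6, nat_lit 1), (nat_lit 4, nat_lit 3, nat_lit 1), (nat_lit 5, nat_lit 3, nat_lit 1), (nat_lit 7, nat_lit 3, nat_lit 1), (nat_lit 7, nat_lit 4, nat_lit 1), (nat_lit 7, nat_lit 5, nat_lit 1), (nat_lit 10, nat_lit 8, nat_lit 1), (nat_lit 11, nat_lit 8, nat_lit 1), (nat_lit 12, nat_lit 8, nat_lit 1), (nat_lit 12, nat_lit 10, nat_lit 1), (nat_lit 12, nat_lit 11, nat_lit 1)]], nat_lit 0x88423b1e0d86a27140e87223120b45c30178c4642b160944c371c0a454331a0f87a200f824160a06034100e0384026120a850221607860341b0e8703c190b8080204018180a00),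
  ([(nat_lit 8, nat_lit 0)], [[]], nat_lit 0xf87a3c1d8e872381b8d86a34198c86230178b85a2c158a85228138984a241188842200f8783a1c0d86832180b8582a14098482210078381a0c058281208038180a04018080200),
  ([(nat_lit 8, nat_lit 1)], [[(nat_lit 10, nat_lit 0, nat_lit 1), (nat_lit 10, nat_lit 1, nat_lit 1), (nat_lit 0, nat_lit 5, nat_lit 1), (nat_lit 1, nat_lit 5, nat_lit 1), (nat_lit 10, nat_lit 5, nat_lit 1), (nat_lit 4, nat_lit 2, nat_lit 1), (nat_lit 6, nat_lit 2, nat_lit 1), (nat_lit 8, nat_lit 2, nat_lit 1), (nat_lit 8, nat_lit 4, nat_lit 1), (nat_lit 8, nat_lit 6, nat_lit 1), (nat_lit 9, nat_lit 7, nat_lit 1), (nat_lit 11, nat_lit 7, nat_lit 1), (nat_lit 13, nat_lit 7, nat_lit 1), (nat_lit 13, nat_lit 9, nat_lit 1), (nat_lit 13, nat_lit 11, nat_lit 1)]], nat_lit 0xd82e340c0486e111c8f8263c0a074621e17814160606038080d0188046221289042260f8c0641b0e0542c3b1e86434331a8e87010078a8502b168080008038b05c29138280209),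
  ([(nat_lit 9, nat_lit 0)], [[]], nat_lit 0xf87a3c1d8e872381b8d86a34198c86230178b85a2c158a85228138984a241188842200f8783a1c0d86832180b8582a14098482210078381a0c058281208038180a04018080200),
  ([(nat_lit 9, nat_lit 1)], [[(nat_lit 11, nat_lit 0, nat_lit 1), (nat_lit 1, nat_lit 4, nat_lit 1), (nat_lit 11, nat_lit 4, nat_lit 1), (nat_lit 5, nat_lit 2, nat_lit 1), (nat_lit 9, nat_lit 2, nat_lit 1), (nat_lit 12, nat_lit 2, nat_lit 1), (nat_lit 6, nat_lit 3, nat_lit 1), (nat_lit 10, nat_lit 3, nat_lit 1), (nat_lit 13, nat_lit 3, nat_lit 1), (nat_lit 12, nat_lit 5, nat_lit 1), (nat_lit 13, nat_lit 6, nat_lit 1), (nat_lit 12, nat_lit 9, nat_lit 1), (nat_lit 13, nat_lit 10, nat_lit 1)]], nat_lit 0xe82e05080f81227100304c16010c83028178a83a12030b81a301c0d410140087042370f8685a22050781c311e8d00824000b0223b0786452360586c7225038ac7815018cc4613),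
  ([(nat_lit 10, nat_lit 0)], [[]], nat_lit 0xf87a3c1d8e872381b8d86a34198c86230178b85a2c158a85228138984a241188842200f8783a1c0d86832180b8582a14098482210078381a0c058281208038180a04018080200),
  ([(nat_lit 10, nat_lit 1)], [[(nat_lit 12, nat_lit 0, nat_lit 1), (nat_lit 12, nat_lit 1, nat_lit 1), (nat_lit 0, nat_lit 3, nat_lit 1), (nat_lit 1, nat_lit 3, nat_lit 1), (nat_lit 12, nat_lit 3, nat_lit 1), (nat_lit 7, nat_lit 2, nat_lit 1), (nat_lit 9, nat_lit 4, nat_lit 1), (nat_lit 11, nat_lit 6, nat_lit 1), (nat_lit 13, nat_lit 8, nat_lit 1)]], nat_lit 0x6c2e34118281a3814070343c1602c1020178643a3312038123713878302b1d8300e300f8985a361f0d45c251e81426060a8082201078a87222190e85231108502c00018482004),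
  ([(nat_lit 11, nat_lit 0)], [[]], nat_lit 0xf87a3c1d8e872381b8d86a34198c86230178b85a2c158a85228138984a241188842200f8783a1c0d86832180b8582a14098482210078381a0c058281208038180a04018080200),
  ([(nat_lit 11, nat_lit 1)], [[(nat_lit 13, nat_lit 1, nat_lit 1), (nat_lit 0, nat_lit 2, nat_lit 1), (nat_lit 13, nat_lit 2, nat_lit 1), (nat_lit 8, nat_lit 3, nat_lit 1), (nat_lit 10, nat_lit 4, nat_lit 1), (nat_lit 11, nat_lit 5, nat_lit 1), (nat_lit 12, nat_lit 7, nat_lit 1)]], nat_lit 0x187a0e0c0ac6a27098b0722a0e02c2004178583a361d0d03c151c024460a1280842000f8a45a330a0340a3b0b8b8501b1b8300631078f03412190904c01038f83230088881020)]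
def b_comms : List (ℕ × ℕ × ℕ) := [(nat_lit 0x542816098481e1108064301a0b878361d0e0b4582b1709c54291408042220f8984624128c06431178d868331a8f8783b1e8e074391b81006060282414080382c180d070000202, nat_lit 0xf47c3b1e0e474371c0d46c331a0c4642f180b45c2b160a45427140944c2312084441f10070361e0e8602e1a0c85026160a8401e12088341c0b060241407040180a04018080200, nat_lit 0xd82e340c0486e111c8f8263c0a074621e17814160606038080d0188046221289042260f8c0641b0e0542c3b1e86434331a8e87010078a8502b168080008038b05c29138280209), (nat_lit 0xe47424118b45c3017884443c1d8d86a27140a454331a0f47c1f100c4642b160984a381b830140b048201a070704026120a8581e1408874361a0c05c321e0e0040404018180a00, nat_lit 0xe872381b8f87a3c1d8c86230178d86a34198a85228138b85a2c1588842200f8984a241186832180b8783a1c0d8482210078582a14098341c0c058241408038140c04018080200, nat_lit 0x6c2e34118281a3814070343c1602c1020178643a3312038123713878302b1d8300e300f8985a361f0d45c251e81426060a8082201078a87222190e85231108502c00018482004)]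
def b_triples : List (ℕ × ℕ × ℕ) := [(nat_lit 0x542816098481e1108064301a0b878361d0e0b4582b1709c54291408042220f8984624128c06431178d868331a8f8783b1e8e074391b81006060282414080382c180d070000202, nat_lit 0x92606ab913b1892c83d9443472159fc5e81272f49e0e240798476468ecc40d2a074e6215732d24a82c2bcb8b23c044f88937a5832a9050a00c2c6a208ae77329b070d958b40be026ea6cda322d858dc246b20d56604e99d786a0c0e9b60c508714a20609858ad25c37ccc1018ac098cf1f370269a489a46c88212548c530db4c3e30078ddb08c672899aa63a88c7a1525805667a281c48acc3f2000aac20b5c129e53ad546b6458e406330b89594903421c169f4a14852bf03ab45ab42201080085f1ad08644795844c34cae90c3c63b24b41442928bc00499644cc42e9e49ad11a2dc7ede6aaa8fa2e4e2ed1443380a92e476d2394063521558074, nat_lit 0x145ae747c19a0a8883ae92059589a97c6e60235f88e26a1cbb015ab30f4a12624cb8b2303b614d173a5ddc9b78adca0bb642b9aa5874124ce4535c4d82965b29156778c3c21e9e20c71b4ac38a68aaad31c5584ea4fb714cfb5495cf31a25b80b6e42fc01410488bde3ca5279c1de8b871f636526cb41507563a05a8854916a245e37938ed1765c35c30c72ad0c47c2a22880f25ca3d608485af57e4475a022c486eb99e8e27ab28f04239158c90967a9d8c4a6f34d22687f119d86c79a0c867f23bf554c351b392a6181361f2c53dc1a109929b11129d1fb49306581a71708c881cdec7e8ec51d2bc36b6df4c9412bcd2d6434659adf5138d28ff598542816098481e1108064301a0b878361d0e0b4582b1709c54291408042220f8984624128c06431178d868331a8f8783b1e8e074391b81006060282414080382c180d070000202),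
  (nat_lit 0xe47424118b45c3017884443c1d8d86a27140a454331a0f47c1f100c4642b160984a381b830140b048201a070704026120a8581e1408874361a0c05c321e0e0040404018180a00, nat_lit 0x3e184660a1a82580a81da14fe3a1a0e464cc61821827e611f416384c35caa922ba44084f392d936712b1c0a83103a400a9a03265266f31068c81869ad4d6253489d5ed624354d0656a2184c193518c481b0013942de51b74a08f5f0c006bd512f1406e29b70a20229005bebb459b48a22238859eb40b99d1c162305488ae69081a08d68a3046142032884c83c18026a508a9d087b5f9e820433c8dd4cc90910548cb0e2b03caa439b056b114acccc8a67224501f4412564ab1507560ad400f9043c622a4be0d2e83d9ac71b318b883629dc1c3d2f204183f3b0b93ed9162e8b2964eb68b6954a12d709c26b60ea5a5ca78e8584b9cc982d250bdb6b7, nat_lit 0x2ed4072249d090ff739e988be3c9ccf07185c088f005ec05784a3bb5e2c9468a59a043472c5eada582555e93381199e446c915b0d257284b2a32bc49e8aa322a0ccee8aa1e28a75244d8a652c2a544632d0fd1ae08eb8a388f673f4de427e385f6df56a4a369020a44811e7d329588430a18c10e799594ccd2aa14a88376c44bf0f664419662299fe128183add3e5272141ccc35d3f9724f412e0ece58414500e38516dd65d74b19566a781a1e4a564c3590672f31d10f1751a4b8ef762fcfac13dc0dd09e262709d0c831d60a9b614116c4d3e275804b3f2d4dade8c1adf2986ab72329a6a34d14f76da322eb44cbe1bab34bb59648b36224dd1a7b0e47424118b45c3017884443c1d8d86a27140a454331a0f47c1f100c4642b160984a381b830140b048201a070704026120a8581e1408874361a0c05c321e0e0040404018180a00)]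
def u_Om : Nat := nat_lit 0x888887885884878877875874860858857855854848847845844830820810806803802801788787785784778777775774760758757755754748747745744730720710706703702701680670666663662661650640636633632631626623622621616613612611608607605604588587585584578577575574560558557555554548547545544530520510506503502501488487485484478477475474460458457455454448447445444430420410406403402401380370366363362361350340336333332331326323322321316313312311308307305304280270266263262261250240236233232231226223222221216213212211208207205204180170166163162161150140136133132131126123122121116113112111108107105104086083082081076073072071068067065064056053052051046043042041038037035034028027025024018017015014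
def u_m1 : Nat := nat_lit 0x723045862
def u_m2 : Nat := nat_lit 0x731823074
def u_c1 : Nat := nat_lit 0x92606ab913b1892c83d9443472159fc5e81272f49e0e240798476468ecc40d2a074e6215732d24a82c2bcb8b23c044f88937a5832a9050a00c2c6a208ae77329b070d958b40be026ea6cda322d858dc246b20d56604e99d786a0c0e9b60c508714a20609858ad25c37ccc1018ac098cf1f370269a489a46c88212548c530db4c3e30078ddb08c672899aa63a88c7a1525805667a281c48acc3f2000aac20b5c129e53ad546b6458e406330b89594903421c169f4a14852bf03ab45ab42201080085f1ad08644795844c34cae90c3c63b24b41442928bc00499644cc42e9e49ad11a2dc7ede6aaa8fa2e4e2ed1443380a92e476d2394063521558074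
def u_c2 : Nat := nat_lit 0x3e184660a1a82580a81da14fe3a1a0e464cc61821827e611f416384c35caa922ba44084f392d936712b1c0a83103a400a9a03265266f31068c81869ad4d6253489d5ed624354d0656a2184c193518c481b0013942de51b74a08f5f0c006bd512f1406e29b70a20229005bebb459b48a22238859eb40b99d1c162305488ae69081a08d68a3046142032884c83c18026a508a9d087b5f9e820433c8dd4cc90910548cb0e2b03caa439b056b114acccc8a67224501f4412564ab1507560ad400f9043c622a4be0d2e83d9ac71b318b883629dc1c3d2f204183f3b0b93ed9162e8b2964eb68b6954a12d709c26b60ea5a5ca78e8584b9cc982d250bdb6b7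
def u_ks : Fin 3 → Fin 224 := ![0, 1, 32]
def u_inv : Nat := nat_lit 0x100881452

set_option maxRecDepth 1000000

theorem b_omega_ok : Bridge.omegaOK 2 1 1 (chevG2.rank + chevG2.nroots) p1_n b_WB b_maskB b_Om = true := by decide +kernel
theorem b_span_ok : Bridge.spanOK 2 1 1 (chevG2.rank + chevG2.nroots) p1_n b_WB b_maskB b_Om b_span = true := by decide +kernel
theorem b_ents_ok : Core.allL (Bridge.entOK 2 1 1 p1_n b_WB b_maskB b_Om p1_w p1_mask p1_idc) b_ents = true := by decide +kernel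
theorem b_tabs_ok : ∀ ent ∈ b_ents, ent.2.1 = tablesOf chevG2 2 ent.1 := by decide +kernel
theorem cP_ok : Core.checkAll p1_n p1_w p1_mask p1_L p1_maskL p1_idc cP_T cP_prog cP_levels = true := by decide +kernel
theorem cA_ok : Core.checkAll p1_n p1_w p1_mask p1_L p1_maskL p1_idc cA_T cA_prog cA_levels = true := by decide +kernel
theorem cB_ok : Core.checkAll p2_n p2_w p2_mask p2_L p2_maskL p2_idc cB_T cB_prog cB_levels = true := by decide +kernel
theorem cC_ok : Core.checkAll p3_n p3_w p3_mask p3_L p3_maskL p3_idc cC_T cC_prog cC_levels = true := by decide +kernel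
theorem cP_order : Core.orderC cP_levels = 12096 := by decide +kernel
theorem cA_order : Core.orderC cA_levels = 6048 := by decide +kernel
theorem cB_order : Core.orderC cB_levels = 6048 := by decide +kernel
theorem cC_order : Core.orderC cC_levels = 6048 := by decide +kernel
theorem derived_ok : Bridge.derivedOK p1_n p1_w p1_mask p1_L p1_maskL p1_idc cP_T cA_levels b_comms = true := by decide +kernel
theorem ents_codes : b_ents.map (fun ent => ent.2.2) = cP_T := by decide +kernel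
theorem comms_codes : b_comms.map (·.1) = cA_T := by decide +kernel
theorem triples_1 : b_triples.map (·.1) = cA_T := by decide +kernel
theorem triples_2 : b_triples.map (·.2.1) = cB_T := by decide +kernel
theorem triples_3 : b_triples.map (·.2.2) = cC_T := by decide +kernel
theorem triples_ok : ∀ x ∈ b_triples, Cfsg.Agent.Lib.Chev.PermDiag.tripleOK 9 511 63 224 x = true := by decide +kernel

end Cfsg.Agent.Lib.Chev.G22Data
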