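import Cfsg.Agent.Lib.Chev.Tables2

/-!
A reduced word for the longest element of the Weyl group of each type.
-/

set_option autoImplicit false
set_option linter.unusedSectionVars false
set_option linter.unusedVariables false

namespace Cfsg.Agent.Lib.Chev.Tables3

open Cfsg Lie ChevalleyDatum Tables Tables2

/-- longest element of the Weyl group of type G2 -/
def w0G2 : List ℕ := [0, 1, 0, 1, 0, 1]

/-- longest element of the Weyl group of type B2 -/
def w0B2 : List ℕ := [0, 1, 0, 1]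

/-- longest element of the Weyl group of type D4 -/
def w0D4 : List ℕ := [0, 1, 0, 2, 1, 0, 3, 1, 0, 2, 1, 3]

/-- longest element of the Weyl group of type F4 -/
def w0F4 : List ℕ := [0, 1, 0, 2, 1, 0, 2, 1, 2, 3, 2, 1, 0, 2, 1, 2, 3, 2, 1, 0, 2, 1, 2, 3]

/-- longest element of the Weyl group of type E6 -/
def w0E6 : List ℕ := [0, 1, 2, 0, 3, 1, 2, 0, 3, 2, 4, 3, 1, 2, 0, 3, 2, 4, 3, 1, 5, 4, 3, 1, 2, 0, 3, 2, 4, 3, 1, 5, 4, 3, 2, 0]

/-- longest element of the Weyl group of type E7 -/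
def w0E7 : List ℕ := [0, 1, 2, 0, 3, 1, 2, 0, 3, 2, 4, 3, 1, 2, 0, 3, 2, 4, 3, 1, 5, 4, 3, 1, 2, 0, 3, 2, 4, 3, 1, 5, 4, 3, 2, 0, 6, 5, 4, 3, 1, 2, 0, 3, 2, 4, 3, 1, 5, 4, 3, 2, 0, 6, 5, 4, 3, 1, 2, 3, 4, 5, 6]

/-- longest element of the Weyl group of type E8 -/
def w0E8 : List ℕ := [0, 1, 2, 0, 3, 1, 2, 0, 3, 2, 4, 3, 1, 2, 0, 3, 2, 4, 3, 1, 5, 4, 3, 1, 2, 0, 3, 2, 4, 3, 1, 5, 4, 3, 2, 0, 6, 5, 4, 3, 1, 2, 0, 3, 2, 4, 3, 1, 5, 4, 3, 2, 0, 6, 5, 4, 3, 1, 2, 3, 4, 5, 6, 7, 6, 5, 4, 3, 1, 2, 0, 3, 2, 4, 3, 1, 5, 4, 3, 2, 0, 6, 5, 4, 3, 1, 2, 3, 4, 5, 6, 7, 6, 5, 4, 3, 1, 2, 0, 3, 2, 4, 3, 1, 5, 4, 3, 2, 0, 6, 5, 4, 3, 1, 2, 3, 4, 5, 6, 7]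

/-- The word for the longest element, selected by the number of roots. -/
def w0Of : ℕ → List ℕ
  | 12 => w0G2
  | 8 => w0B2
  | 24 => w0D4
  | 48 => w0F4
  | 72 => w0E6
  | 126 => w0E7
  | 240 => w0E8
  | _ => []

/-- Action of a word on a root (the last letter acts first). -/
def wWord (D : ChevalleyDatum) (l : List ℕ) (s : ℕ) : ℕ := l.foldr D.reflectRoot s

/-- the check on one table -/
def w0Check (D : ChevalleyDatum) (W : List ℕ) (l : ℕ) : Bool :=
  W.all (fun i => decide (i < l)) &&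
    allBelow l fun k => decide (D.IsNegRoot (wWord D W (D.simple k)))

/-- The longest word. -/
structure Tab3 (D : ChevalleyDatum) : Prop where
  w0_lt : ∀ i ∈ w0Of D.nroots, i < D.rank
  w0_neg : ∀ k, k < D.rank → D.IsNegRoot (wWord D (w0Of D.nroots) (D.simple k))

theorem tab3_of_checks (D : ChevalleyDatum) (W : List ℕ) (l : ℕ) (hW : w0Of D.nroots = W) (hl : D.rank = l)
    (hc : w0Check D W l = true) : Tab3 D := by
  subst hW hl
  simp only [w0Check, Bool.and_eq_true, List.all_eq_true, decide_eq_true_eq] at hc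
  refine ⟨hc.1, fun k hk => ?_⟩
  have := allBelow_spec hc.2 k hk
  simpa only [decide_eq_true_eq] using this

set_option maxRecDepth 100000
set_option maxHeartbeats 0

theorem tab3_G2 : Tab3 chevG2 :=
  tab3_of_checks chevG2 w0G2 2 rfl rfl (by decide +kernel)

theorem tab3_B2 : Tab3 chevB2 :=
  tab3_of_checks chevB2 w0B2 2 rfl rfl (by decide +kernel)

theorem tab3_D4 : Tab3 chevD4 :=
  tab3_of_checks chevD4 w0D4 4 rfl rfl (by decide +kernel)

theorem tab3_F4 : Tab3 chevF4 :=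
  tab3_of_checks chevF4 w0F4 4 rfl rfl (by decide +kernel)

theorem tab3_E6 : Tab3 chevE6 :=
  tab3_of_checks chevE6 w0E6 6 rfl rfl (by decide +kernel)

theorem tab3_E7 : Tab3 chevE7 :=
  tab3_of_checks chevE7 w0E7 7 rfl rfl (by decide +kernel)

theorem tab3_E8 : Tab3 chevE8 :=
  tab3_of_checks chevE8 w0E8 8 rfl rfl (by decide +kernel)

theorem tab3_of_mem {D : ChevalleyDatum} (hD : D ∈ [chevG2, chevB2, chevD4, chevF4, chevE6, chevE7, chevE8]) :
    Tab3 D := by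
  simp only [List.mem_cons, List.not_mem_nil, or_false] at hD
  rcases hD with rfl | rfl | rfl | rfl | rfl | rfl | rfl
  · exact tab3_G2
  · exact tab3_B2
  · exact tab3_D4
  · exact tab3_F4
  · exact tab3_E6
  · exact tab3_E7
  · exact tab3_E8

end Cfsg.Agent.Lib.Chev.Tables3
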