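import Cfsg.Agent.Lib.Chev.Weyl
import Cfsg.Agent.Lib.Coxeter.Data

/-!
`N/H` is the Coxeter group of the type.
-/

set_option autoImplicit false
set_option linter.unusedSectionVars false
set_option linter.unusedVariables false

namespace Cfsg.Agent.Lib.Chev.WeylData

open scoped MatrixGroups Matrix
open Cfsg Lie ChevalleyDatum Tables Tables2 Tables3 Raise Basic AxBasic Torus Products Products2 Mono1 Mono2 Mono3 Weyl
open Cfsg.Agent.Lib.Coxeter.Chain Cfsg.Agent.Lib.Coxeter.Data

variable {F : Type*} [Field F]

/-- Check that a relabelling intertwines the table of the generators and the reflections of the datum. -/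
def sigCheck (D : ChevalleyDatum) (n N : ℕ) (tb : List ℕ) (sig sigInv : ℕ) : Bool :=
  (allBelow N fun x => decide (look sig x < N) && decide (look sigInv x < N) &&
    decide (look sigInv (look sig x) = x) && decide (look sig (look sigInv x) = x)) &&
  allBelow n fun i => allBelow N fun x => decide (look sig (D.reflectRoot i x) = tabT n N tb i (look sig x))

/-- The relabelling as a permutation. -/
def sigPerm {N sig sigInv : ℕ}
    (h1 : allBelow N (fun x => decide (look sig x < N) && decide (look sigInv x < N) &&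
      decide (look sigInv (look sig x) = x) && decide (look sig (look sigInv x) = x)) = true) : Equiv.Perm ℕ where
  toFun x := if x < N then look sig x else x
  invFun x := if x < N then look sigInv x else x
  left_inv x := by
    by_cases hx : x < N
    · have := allBelow_spec h1 x hx
      simp only [Bool.and_eq_true, decide_eq_true_eq] at this
      simp [hx, this]
    · simp [hx]
  right_inv x := by
    by_cases hx : x < N
    · have := allBelow_spec h1 x hx
      simp only [Bool.and_eq_true, decide_eq_true_eq] at this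
      simp [hx, this]
    · simp [hx]

theorem final_of_tables {D : ChevalleyDatum} (h : Tab D) (h2 : Tab2 D) (ax : Ax D F)
    {n0 N : ℕ} (M : CoxeterMatrix (Fin n0)) (hn : n0 = D.rank) (hN : N = D.nroots)
    {tb : List ℕ} {mm : List (List ℕ)} {ls : List Link} {sig sigInv : ℕ}
    (h1 : checkInvol n0 N tb = true)
    (h3 : ∀ i j : Fin n0, tabM mm i j = M i j) (h4 : checkRel n0 N tb mm = true)
    (hc : checkChain (tabT n0 N tb) (tabM mm) n0 (List.range n0) ls = true)
    (hr : sigCheck D n0 N tb sig sigInv = true) :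
    ∃ φ : ↥(D.monomialSubgroup F) →* M.Group, Function.Surjective φ ∧
      φ.ker = (D.diagonalSubgroup F).subgroupOf (D.monomialSubgroup F) ∧
      ∀ (i : Fin n0) (g : ↥(D.monomialSubgroup F)),
        ((g : GL D.Idx F) : Matrix D.Idx D.Idx F) = D.nMat F (D.simple i) 1 → φ g = M.simple i := by
  subst hN
  simp only [sigCheck, Bool.and_eq_true] at hr
  obtain ⟨hs1, hs2⟩ := hr
  have hs1' : allBelow D.nroots (fun x => decide (look sig x < D.nroots) && decide (look sigInv x < D.nroots) &&
      decide (look sigInv (look sig x) = x) && decide (look sig (look sigInv x) = x)) = true := hs1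
  set σ : Equiv.Perm ℕ := sigPerm hs1' with hσ
  let π₀ : M.Group →* Equiv.Perm ℕ :=
    (MulAut.conj σ⁻¹).toMonoidHom.comp (mkAct M h1 h3 h4).π
  have hπ₀ : ∀ w x, π₀ w x = σ⁻¹ ((mkAct M h1 h3 h4).π w (σ x)) := by
    intro w x
    simp [π₀, MulAut.conj_apply, Equiv.Perm.mul_apply]
  refine exists_hom_coxeter h h2 ax M hn π₀ ?_ ?_
  · intro a b e
    apply (card_and_inj M h1 h3 h4 ls hc).2
    have e2 : σ⁻¹ * (mkAct M h1 h3 h4).π a * σ = σ⁻¹ * (mkAct M h1 h3 h4).π b * σ := by
      simpa [π₀, MulAut.conj_apply] using e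
    simpa using e2
  · intro i
    ext x
    have hi := (mkAct M h1 h3 h4).hπ i.1 i.2
    simp only [mkAct, genN, i.2, dite_true, Fin.eta] at hi
    have hi' : ∀ y, (mkAct M h1 h3 h4).π (M.simple i) y = tabT n0 D.nroots tb i y := hi
    rw [hπ₀, hi']
    by_cases hx : x < D.nroots
    · rw [extP_apply_lt _ hx, wF_val]
      have h5 := allBelow_spec (allBelow_spec hs2 i i.isLt) x hx
      simp only [decide_eq_true_eq] at h5
      have h6 : σ x = look sig x := by simp [hσ, sigPerm, hx]
      have hi0 : i.1 < D.rank := hn ▸ i.isLt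
      have hlt := h.reflect_lt i hi0 x hx
      have h7 : σ (D.reflectRoot i x) = look sig (D.reflectRoot i x) := by simp [hσ, sigPerm, hlt]
      rw [h6, ← h5, ← h7]
      simp
    · rw [extP_apply_ge _ hx]
      have h6 : σ x = x := by simp [hσ, sigPerm, hx]
      rw [h6]
      have : tabT n0 D.nroots tb i x = x := by simp [tabT, hx]
      rw [this]
      rw [Equiv.Perm.inv_eq_iff_eq, h6]


/-- Relabelling of the roots of type G2. -/
def sigG2 : ℕ := 0xb0a09080607040503020100

/-- Inverse relabelling of the roots of type G2. -/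
def sigInvG2 : ℕ := 0xb0a09080607040503020100

/-- Relabelling of the roots of type B2. -/
def sigB2 : ℕ := 0x706040502030100

/-- Inverse relabelling of the roots of type B2. -/
def sigInvB2 : ℕ := 0x706040502030100

/-- Relabelling of the roots of type D4. -/
def sigD4 : ℕ := 0x17161314100c1511120d0e0f08090a0506020b0703040100

/-- Inverse relabelling of the roots of type D4. -/
def sigInvD4 : ℕ := 0x17161114150f10130c0d0e1205090a0b0407080203060100

/-- Relabelling of the roots of type F4. -/
def sigF4 : ℕ := 0x2f2e2d2c2a28252b292622231f1c18272420211d191e1a1b14151116120e0f0b081713100c0d0906040a070503020100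

/-- Inverse relabelling of the roots of type F4. -/
def sigInvF4 : ℕ := 0x2f2e2d2c282b272a2026291f24251d1e231a1c2218191b210e1416170d13150c11120a0b1006090f0508040703020100

/-- Relabelling of the roots of type E6. -/
def sigE6 : ℕ := 0x474645434044413d3e39343a352f2a24423f3b3c363037312b2538322c26332d272e28291e1f19201a14211b150f221c161017110b0c0805231d18120d130e090a06030704020100

/-- Inverse relabelling of the roots of type E6. -/
def sigInvE6 : ℕ := 0x4746454244374143363f4034353c3e2d31333b3d292c30323a26282b2f392425272a2e380f191d2022230e181c1f210d15171b1e0a0c14161a090b12130708110406100305020100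

/-- Relabelling of the roots of type E7. -/
def sigE7 : ℕ := 0x7d7c7b7a7876737977747075716c6d6863726e696a645e655f58526059534c463f6f6b6667615a625b544d5c554e47405d564f484157504942514a434b44453839323a332c3b342d263c352e27203d362f28213029221b231c1617120e3e37312a241d2b251e181f1913140f0b1a1510110c080d0906040a070503020100

/-- Inverse relabelling of the roots of type E7. -/
def sigInvE7 : ℕ := 0x7d7c7b7a767975787274776c71735c6b6f705b696a6e595a66686d56586265674d5255576164484c5154606344474b50535f4143464a4f5e3f404245494e5d202f34383b3d3e1f2e33373a3c1e2a2d3236391a1d292c3135191c26282b3016181b252710151723240f1314220d0e12210a0c1106090b0508040703020100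

/-- Relabelling of the roots of type E8. -/
def sigE8 : ℕ := 0xefeeedecebeae8e9e6e4e2dfdcd8e7e5e3e0ddd9d4e1dedad5d0dbd6d1ccd2cdc7c8c2bcd7d3cec9cfcac3c4bdb6cbc5bebfb7b0b8b1aaa3c6c0b9bab2abb3aca49cada59d958ea69e968f878078c1bbb4b5aea7afa89f97a9a0989088a19991898179a29a928a827a9b938b837b948c847c8d857d867e7f707169726a62736b635b746c645c54756d655d554d766e665e564e675f574f465850474048413a3b342e776f6860595149615a524a42534b433c443d35362f294c453e373f3830312a2439322b2c252026211c18332d2728221d231e19141f1a15110e1b16120f0c0a081713100d0b090607050403020100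

/-- Inverse relabelling of the roots of type E8. -/
def sigInvE8 : ℕ := 0xefeeedecebeae8e9e1e7e0e6dfe5dadee4d9dde3d5d8dce2cbd4d7dbcad1d3d6c7c9d0d2c1c6c8cecfb7c0c4c5cda1b6bebfc3cca0b4b5bbbdc29e9fb1b3babc9b9dadb0b2b9979a9ca8acafb88c929699a7abae868b919598a6aa81858a9094a5a97d8084898f93a47a7c7f83888ea378797b7e82878da24d62686d717476774c61676c7073754b5c60666b6f72464a5b5f656a6e4549575a5e646941444856595d6337404347535558363d3f42525433353c3e50512d32343a3b4f232c3031394e222a2b2f38202127292e1d1f2628191c1e2514181b240d13171a0c12160b11150a10090f080e0607050403020100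

set_option maxRecDepth 100000
set_option maxHeartbeats 0

theorem sigCheckG2 : sigCheck chevG2 2 12 tbG2 sigG2 sigInvG2 = true := by decide +kernel
theorem sigCheckB2 : sigCheck chevB2 2 8 tbB2 sigB2 sigInvB2 = true := by decide +kernel
theorem sigCheckD4 : sigCheck chevD4 4 24 tbD4 sigD4 sigInvD4 = true := by decide +kernel
theorem sigCheckF4 : sigCheck chevF4 4 48 tbF4 sigF4 sigInvF4 = true := by decide +kernel
theorem sigCheckE6 : sigCheck chevE6 6 72 tbE6 sigE6 sigInvE6 = true := by decide +kernel
theorem sigCheckE7 : sigCheck chevE7 7 126 tbE7 sigE7 sigInvE7 = true := by decide +kernel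
theorem sigCheckE8 : sigCheck chevE8 8 240 tbE8 sigE8 sigInvE8 = true := by decide +kernel

theorem final (p : ChevalleyDatum × (Σ n : ℕ, CoxeterMatrix (Fin n)))
    (hp : p ∈ [(chevG2, ⟨2, CoxeterMatrix.G₂⟩), (chevB2, ⟨2, CoxeterMatrix.B 2⟩), (chevD4, ⟨4, coxeterD4⟩), (chevF4, ⟨4, CoxeterMatrix.F₄⟩),
      (chevE6, ⟨6, CoxeterMatrix.E₆⟩), (chevE7, ⟨7, CoxeterMatrix.E₇⟩), (chevE8, ⟨8, CoxeterMatrix.E₈⟩)])
    (ax : Ax p.1 F) :
    ∃ φ : ↥(p.1.monomialSubgroup F) →* p.2.2.Group, Function.Surjective φ ∧
      φ.ker = (p.1.diagonalSubgroup F).subgroupOf (p.1.monomialSubgroup F) ∧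
      ∀ (i : Fin p.2.1) (g : ↥(p.1.monomialSubgroup F)),
        ((g : GL p.1.Idx F) : Matrix p.1.Idx p.1.Idx F) = p.1.nMat F (p.1.simple i) 1 → φ g = p.2.2.simple i := by
  simp only [List.mem_cons, List.not_mem_nil, or_false] at hp
  rcases hp with rfl | rfl | rfl | rfl | rfl | rfl | rfl
  · exact final_of_tables tab_G2 tab2_G2 ax _ rfl rfl involG2 mmG2_eq relG2 chainG2 sigCheckG2
  · exact final_of_tables tab_B2 tab2_B2 ax _ rfl rfl involB2 mmB2_eq relB2 chainB2 sigCheckB2
  · exact final_of_tables tab_D4 tab2_D4 ax _ rfl rfl involD4 mmD4_eq relD4 chainD4 sigCheckD4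
  · exact final_of_tables tab_F4 tab2_F4 ax _ rfl rfl involF4 mmF4_eq relF4 chainF4 sigCheckF4
  · exact final_of_tables tab_E6 tab2_E6 ax _ rfl rfl involE6 mmE6_eq relE6 chainE6 sigCheckE6
  · exact final_of_tables tab_E7 tab2_E7 ax _ rfl rfl involE7 mmE7_eq relE7 chainE7 sigCheckE7
  · exact final_of_tables tab_E8 tab2_E8 ax _ rfl rfl involE8 mmE8_eq relE8 chainE8 sigCheckE8

end Cfsg.Agent.Lib.Chev.WeylData
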